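import Groth.Agent.Inters29.Fibre
import Groth.Agent.NormalExtLib.Basic
import Groth.Agent.CAlgMisc2.Normal
import Groth.Prelude.Def_Pi1
import Groth.Prelude.Def_ModelsG
import Mathlib.RingTheory.KrullDimension.Basic
import Mathlib.RingTheory.DiscreteValuationRing.TFAE

/-!
# The closed fibre of a normal proper model at its maximal points
-/

set_option autoImplicit false
set_option linter.style.haveILetI false
set_option backward.isDefEq.respectTransparency false

universe u

open CategoryTheory CategoryTheory.Limits AlgebraicGeometry TopologicalSpace IsLocalRing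
open Groth.Agent.Misc15.DivDescent Groth.Agent.SDiv28.CartierPart

namespace Groth.Agent.Models7.CohFlatNormal

variable (R : Type u) [CommRing R] [IsDomain R] [IsDiscreteValuationRing R]
variable {X : Over (Spec (CommRingCat.of R))}

/-- The maximal points of the closed fibre: the generic points of its components. -/
def IsFibMax (ξ : X.left) : Prop :=
  ξ ∈ Models.specialFibreSet R X ∧ ∀ w ∈ Models.specialFibreSet R X, w ⤳ ξ → w = ξ

/-- The image of an element of the base in the functions on an open. -/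
noncomputable def baseSec (V : X.left.Opens) : R →+* Γ(X.left, V) :=
  (X.left.presheaf.map (homOfLE (le_top : V ≤ ⊤)).op).hom.comp (Coh.toGlobal X.hom)

theorem germ_baseSec (V : X.left.Opens) (r : R) (x : X.left) (hx : x ∈ V) :
    X.left.presheaf.germ V x hx (baseSec R V r) = Models.stalkHom R X x r :=
  TopCat.Presheaf.germ_res_apply X.left.presheaf _ x hx _

theorem res_baseSec {V W : X.left.Opens} (h : W ≤ V) (r : R) :
    X.left.presheaf.map (homOfLE h).op (baseSec R V r) = baseSec R W r := by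
  show (X.left.presheaf.map _ ≫ X.left.presheaf.map _) _ = X.left.presheaf.map _ _
  rw [← Functor.map_comp]
  rfl

theorem mem_fibre_iff {ϖ : R} (hϖ : Irreducible ϖ) (x : X.left) :
    x ∈ Models.specialFibreSet R X ↔ ¬ IsUnit (Models.stalkHom R X x ϖ) := by
  refine ⟨fun h => Inters29.mem_maximalIdeal_stalkHom R hϖ h, fun h => ?_⟩
  refine (Inters29.support_specialFibreIdeal R).le ((mem_support_iff_stk _ _).2 ?_)
  rw [Inters29.stk_specialFibreIdeal_span R hϖ, Ideal.span_singleton_le_iff_mem]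
  exact h

variable [IsIntegral X.left] [IsLocallyNoetherian X.left] [Flat X.hom]

theorem baseSec_ne_zero (V : X.left.Opens) [Nonempty V] {r : R} (hr : r ≠ 0) : baseSec (X := X) R V r ≠ 0 := by
  intro h
  obtain ⟨⟨x, hx⟩⟩ := ‹Nonempty V›
  refine hr (Inters29.stalkHom_injective R x ?_)
  rw [map_zero, ← germ_baseSec R V r x hx, h, map_zero]

theorem stalk_dvr (hn : Pi1.IsNormalScheme X.left) {ξ : X.left} (hξ : IsFibMax R ξ) :
    IsDiscreteValuationRing (X.left.presheaf.stalk ξ) := by
  obtain ⟨ϖ, hϖ⟩ := IsDiscreteValuationRing.exists_irreducible R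
  have hm := Inters29.mem_maximalIdeal_stalkHom R hϖ hξ.1
  have h0 : Models.stalkHom R X ξ ϖ ≠ 0 := fun h =>
    hϖ.ne_zero (Inters29.stalkHom_injective R ξ (h.trans (map_zero _).symm))
  haveI : IsIntegrallyClosed (X.left.presheaf.stalk ξ) := (hn ξ).2
  have hf : ¬ IsField (X.left.presheaf.stalk ξ) := fun h => h0 (by
    rw [isField_iff_maximalIdeal_eq.1 h] at hm
    exact hm)
  haveI : Ring.KrullDimLE 1 (X.left.presheaf.stalk ξ) := Ring.krullDimLE_iff.2 (by
    rw [ringKrullDim_stalk_eq_coheight]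
    exact WithBot.coe_le_coe.2 (Inters29.coheight_le_one_of_maximal R hξ.1 hξ.2))
  have hdim := Ring.krullDimLE_one_iff_of_noZeroDivisors.1 ‹Ring.KrullDimLE 1 (X.left.presheaf.stalk ξ)›
  exact ((IsDiscreteValuationRing.TFAE (X.left.presheaf.stalk ξ) hf).out 3 0 :
    (IsIntegrallyClosed (X.left.presheaf.stalk ξ) ∧ ∃! q : Ideal (X.left.presheaf.stalk ξ), q ≠ ⊥ ∧ q.IsPrime) ↔ _).1
    ⟨inferInstance, maximalIdeal _, ⟨fun h => hf (isField_iff_maximalIdeal_eq.2 h), inferInstance⟩,
      fun q ⟨hq0, hq⟩ => eq_maximalIdeal (hdim q hq0 hq)⟩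

omit [Flat X.hom] [IsIntegral X.left] in
theorem finite_fibMax [CompactSpace X.left] : {ξ : X.left | IsFibMax R ξ}.Finite := by
  obtain ⟨ϖ, hϖ⟩ := IsDiscreteValuationRing.exists_irreducible R
  obtain ⟨T, hT⟩ := isCompact_univ.elim_finite_subcover (fun V : X.left.affineOpens => (V.1 : Set X.left))
    (fun V => V.1.2) fun x _ => by
      obtain ⟨V, hV, hx, -⟩ := exists_isAffineOpen_mem_and_subset (x := x) (U := ⊤) trivial
      exact Set.mem_iUnion.2 ⟨⟨V, hV⟩, hx⟩
  refine Set.Finite.subset (s := ⋃ V ∈ (T : Set X.left.affineOpens),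
    V.2.fromSpec.base '' {P : PrimeSpectrum Γ(X.left, V.1) | P.asIdeal ∈ (Ideal.span {baseSec R V.1 ϖ}).minimalPrimes}) (T.finite_toSet.biUnion fun V _ => ?_) ?_
  · haveI : IsNoetherianRing Γ(X.left, V.1) := IsLocallyNoetherian.component_noetherian V
    refine Set.Finite.image _ ?_
    exact (Ideal.finite_minimalPrimes_of_isNoetherianRing _ _).preimage fun a _ b _ h => PrimeSpectrum.ext h
  intro ξ hξ
  obtain ⟨V, hVT, hξV⟩ := Set.mem_iUnion₂.1 (hT (Set.mem_univ ξ))
  refine Set.mem_iUnion₂.2 ⟨V, hVT, V.2.primeIdealOf ⟨ξ, hξV⟩, ?_, V.2.fromSpec_primeIdealOf _⟩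
  have hkey : ∀ Q : PrimeSpectrum Γ(X.left, V.1), baseSec R V.1 ϖ ∈ Q.asIdeal ↔
      V.2.fromSpec Q ∈ Models.specialFibreSet R X := fun Q => by
    have hy : V.2.fromSpec Q ∈ V.1 := V.2.range_fromSpec.le (Set.mem_range_self Q)
    rw [mem_fibre_iff R hϖ, ← germ_baseSec R V.1 ϖ _ hy, ← Scheme.mem_basicOpen X.left _ _ hy]
    rw [show V.2.fromSpec Q ∈ X.left.basicOpen (baseSec R V.1 ϖ) ↔ Q ∈ PrimeSpectrum.basicOpen (baseSec R V.1 ϖ) by
      rw [← V.2.fromSpec_preimage_basicOpen]; rfl]
    exact not_not.symm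
  refine ⟨⟨(V.2.primeIdealOf ⟨ξ, hξV⟩).2, (Ideal.span_singleton_le_iff_mem _).2 ((hkey _).2 ?_)⟩, fun Q ⟨hQ, hπQ⟩ hle => ?_⟩
  · rw [V.2.fromSpec_primeIdealOf]; exact hξ.1
  · let P : PrimeSpectrum Γ(X.left, V.1) := ⟨Q, hQ⟩
    have h1 : V.2.fromSpec P ⤳ ξ := by
      refine (congrArg (fun z => V.2.fromSpec P ⤳ z) (V.2.fromSpec_primeIdealOf ⟨ξ, hξV⟩)).mp ?_
      exact ((PrimeSpectrum.le_iff_specializes P (V.2.primeIdealOf ⟨ξ, hξV⟩)).1 hle).map V.2.fromSpec.continuous
    have h2 := hξ.2 _ ((hkey P).1 ((Ideal.span_singleton_le_iff_mem _).1 hπQ)) h1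
    have h3 : P = V.2.primeIdealOf ⟨ξ, hξV⟩ :=
      V.2.fromSpec.isOpenEmbedding.injective (h2.trans (V.2.fromSpec_primeIdealOf ⟨ξ, hξV⟩).symm)
    exact (congrArg PrimeSpectrum.asIdeal h3).ge

omit [Flat X.hom] [IsIntegral X.left] in
/-- A function is a non-unit on the closed fibre as soon as it is one at its maximal points. -/
theorem not_isUnit_of_fibMax {V : X.left.Opens} (f : Γ(X.left, V))
    (h : ∀ ξ, ∀ hξ : ξ ∈ V, IsFibMax R ξ → ¬ IsUnit (X.left.presheaf.germ V ξ hξ f))
    (x : X.left) (hx : x ∈ V) (hxF : x ∈ Models.specialFibreSet R X) :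
    ¬ IsUnit (X.left.presheaf.germ V x hx f) := by
  intro hu
  obtain ⟨w, hw, hwx, hmax⟩ := Inters29.exists_maximal_generization R hxF
  have hxb : x ∈ X.left.basicOpen f := (Scheme.mem_basicOpen X.left f x hx).2 hu
  have hwV : w ∈ V := hwx.mem_open V.2 hx
  exact h w hwV ⟨hw, hmax⟩ ((Scheme.mem_basicOpen X.left f w hwV).1 (hwx.mem_open (X.left.basicOpen f).2 hxb))

/-- Divisibility by a power of the uniformizer is tested at the maximal points of the closed fibre. -/
theorem exists_eq_baseSec_mul (hn : Pi1.IsNormalScheme X.left) {ϖ : R} (hϖ : Irreducible ϖ)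
    {V : X.left.Opens} (hV : IsAffineOpen V) (f : Γ(X.left, V)) (k : ℕ)
    (h : ∀ ξ, ∀ hξ : ξ ∈ V, IsFibMax R ξ →
      Models.stalkHom R X ξ ϖ ^ k ∣ X.left.presheaf.germ V ξ hξ f) :
    ∃ c, f = baseSec R V ϖ ^ k * c := by
  rcases isEmpty_or_nonempty V with hVe | hVne
  · haveI : Subsingleton Γ(X.left, V) := by
      have : V = ⊥ := Opens.ext (Set.eq_empty_iff_forall_notMem.2 fun x hx => hVe.false ⟨x, hx⟩)
      rw [this]; infer_instance
    exact ⟨0, Subsingleton.elim _ _⟩
  haveI : IsIntegrallyClosed Γ(X.left, V) := NormalExtLib.isIntegrallyClosed_sections hn V hV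
  haveI : IsNoetherianRing Γ(X.left, V) := IsLocallyNoetherian.component_noetherian ⟨V, hV⟩
  let A := Γ(X.left, V)
  have hπ0 : algebraMap A (FractionRing A) (baseSec R V ϖ ^ k) ≠ 0 :=
    (map_ne_zero_iff _ (IsFractionRing.injective A (FractionRing A))).2 (pow_ne_zero k (baseSec_ne_zero R V hϖ.ne_zero))
  obtain ⟨c, hc⟩ := CAlgMisc2.mem_range_of_forall_height_one
    (algebraMap A (FractionRing A) f / algebraMap A (FractionRing A) (baseSec R V ϖ ^ k)) fun P hP hP1 => by
    let Q : PrimeSpectrum A := ⟨P, hP⟩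
    by_cases hπP : baseSec R V ϖ ∈ P
    · let y := hV.fromSpec Q
      have hy : y ∈ V := hV.range_fromSpec.le (Set.mem_range_self Q)
      have hmax : IsFibMax R y := by
        refine ⟨(mem_fibre_iff R hϖ y).2 fun hu => ?_, fun w hw hwy => ?_⟩
        · rw [← germ_baseSec R V ϖ y hy, ← Scheme.mem_basicOpen X.left _ _ hy] at hu
          have : Q ∈ PrimeSpectrum.basicOpen (baseSec R V ϖ) := by
            rw [← hV.fromSpec_preimage_basicOpen]; exact hu
          exact this hπP
        · have hwV : w ∈ V := hwy.mem_open V.2 hy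
          let Q' := hV.primeIdealOf ⟨w, hwV⟩
          have hQ'π : baseSec R V ϖ ∈ Q'.asIdeal := by
            by_contra hn'
            have h1 : w ∈ X.left.basicOpen (baseSec R V ϖ) := by
              refine (congrArg (· ∈ X.left.basicOpen (baseSec R V ϖ)) (hV.fromSpec_primeIdealOf ⟨w, hwV⟩)).mp ?_
              show Q' ∈ hV.fromSpec ⁻¹ᵁ X.left.basicOpen (baseSec R V ϖ)
              rw [hV.fromSpec_preimage_basicOpen]; exact hn'
            rw [Scheme.mem_basicOpen X.left _ _ hwV, germ_baseSec] at h1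
            exact (mem_fibre_iff R hϖ w).1 hw h1
          have hle : Q'.asIdeal ≤ P := by
            have : Q' ⤳ Q := by
              rw [← hV.fromSpec.isOpenEmbedding.isInducing.specializes_iff, hV.fromSpec_primeIdealOf]
              exact hwy
            exact (PrimeSpectrum.le_iff_specializes Q' Q).2 this
          have : Q'.asIdeal = P := by
            by_contra hne
            have hlt : Q'.asIdeal < P := lt_of_le_of_ne hle hne
            haveI : P.FiniteHeight := Ideal.finiteHeight_of_isNoetherianRing P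
            have h2 := Ideal.height_strict_mono_of_isPrime hlt
            rw [hP1, ENat.lt_one_iff_eq_zero, Ideal.height_eq_zero_iff,
              IsDomain.minimalPrimes_eq_singleton_bot, Set.mem_singleton_iff] at h2
            rw [h2, Ideal.mem_bot] at hQ'π
            exact baseSec_ne_zero R V hϖ.ne_zero hQ'π
          exact (hV.fromSpec_primeIdealOf ⟨w, hwV⟩).symm.trans (congrArg hV.fromSpec (PrimeSpectrum.ext this))
      letI : Algebra A (X.left.presheaf.stalk y) := (X.left.presheaf.germ V y hy).hom.toAlgebra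
      haveI : IsLocalization.AtPrime (X.left.presheaf.stalk y) Q.asIdeal := hV.isLocalization_stalk' Q hy
      obtain ⟨d, hd⟩ := h y hy hmax
      obtain ⟨⟨a, s⟩, has⟩ := IsLocalization.surj P.primeCompl d
      refine ⟨a, s, s.2, ?_⟩
      have h3 : (f * (s : A) : A) = baseSec R V ϖ ^ k * a := by
        have hinj : Function.Injective (algebraMap A (X.left.presheaf.stalk y)) :=
          IsLocalization.injective _ P.primeCompl_le_nonZeroDivisors
        refine hinj ?_
        rw [map_mul, map_mul, map_pow, ← has]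
        show X.left.presheaf.germ V y hy f * _ = X.left.presheaf.germ V y hy (baseSec R V ϖ) ^ k * _
        rw [germ_baseSec, hd, mul_assoc]
      rw [div_mul_eq_mul_div, div_eq_iff hπ0, ← map_mul, ← map_mul, h3, mul_comm]
    · refine ⟨f, baseSec R V ϖ ^ k, fun h => hπP (hP.mem_of_pow_mem k h), ?_⟩
      exact div_mul_cancel₀ _ hπ0
  refine ⟨c, IsFractionRing.injective A (FractionRing A) ?_⟩
  rw [map_mul, hc, mul_div_cancel₀ _ hπ0]

end Groth.Agent.Models7.CohFlatNormal
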