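import Groth.Agent.Inters29.CohFlat

/-!
# Functions on a reduced closed fibre lift when the residue field is perfect

The variant of `Inters29.surjective_appTop_of_field` for any closed subscheme supported on the closed fibre.
-/

set_option autoImplicit false
set_option linter.style.haveILetI false
set_option backward.isDefEq.respectTransparency false

universe u

open CategoryTheory CategoryTheory.Limits AlgebraicGeometry TopologicalSpace IsLocalRing Polynomial
open Groth.Agent.Inters29

namespace Groth.Agent.Models7.CohFlatNormal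

variable (R : Type u) [CommRing R] [IsDomain R] [IsDiscreteValuationRing R]
variable {X : Over (Spec (CommRingCat.of R))} [IsIntegral X.left] [IsLocallyNoetherian X.left] [Flat X.hom]
  [IsProper X.hom]

set_option maxHeartbeats 800000 in
/-- Restriction of functions to a special fibre without nilpotents or idempotents is surjective. -/
theorem surjective_appTop_of_perfect [PerfectField (ResidueField R)] {Z : Scheme.{u}} (j : Z ⟶ X.left)
    [IsClosedImmersion j] (hr : Set.range j.base = Models.specialFibreSet R X)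
    (strκ : ResidueField R →+* Γ(Z, ⊤)) (hstr : strκ.comp (IsLocalRing.residue R) = Coh.toGlobal (j ≫ X.hom))
    (hstrfin : strκ.Finite) (hF : IsField Γ(Z, ⊤)) :
    Function.Surjective j.appTop.hom := by
  classical
  let R' := Γ(X.left, ⊤)
  let κ := Γ(Z, ⊤)
  letI : Field κ := hF.toField
  haveI : Nonempty (⊤ : X.left.Opens) := ⟨⟨genericPoint X.left, trivial⟩⟩
  let φ : R' →+* κ := j.appTop.hom
  let eR := (Scheme.ΓSpecIso (CommRingCat.of R)).symm.commRingCatIsoToRingEquiv
  let str : R →+* R' := X.hom.appTop.hom.comp eR.toRingHom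
  have hcomp : φ.comp str = strκ.comp (IsLocalRing.residue R) := by
    rw [hstr]
    ext r
    show j.appTop (str r) = (j ≫ X.hom).appTop ((Scheme.ΓSpecIso (CommRingCat.of R)).inv r)
    rw [Scheme.Hom.comp_appTop]
    rfl
  letI : Algebra (ResidueField R) κ := strκ.toAlgebra
  haveI : Module.Finite (ResidueField R) κ := hstrfin
  -- the image is a field
  let S : Subalgebra (ResidueField R) κ :=
    { φ.range.toSubsemiring with
      algebraMap_mem' := fun c => by
        obtain ⟨r, rfl⟩ := IsLocalRing.residue_surjective c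
        exact ⟨str r, RingHom.congr_fun hcomp r⟩ }
  let F : IntermediateField (ResidueField R) κ :=
    S.toIntermediateField fun x hx => S.inv_mem_of_algebraic (x := ⟨x, hx⟩) (Algebra.IsAlgebraic.isAlgebraic x)
  intro a
  have hmemF : ∀ r, φ r ∈ F := fun r => (⟨r, rfl⟩ : φ r ∈ φ.range)
  let φF : R' →+* F :=
    { toFun := fun r => ⟨φ r, hmemF r⟩
      map_one' := Subtype.ext φ.map_one
      map_mul' := fun x y => Subtype.ext (φ.map_mul x y)
      map_zero' := Subtype.ext φ.map_zero
      map_add' := fun x y => Subtype.ext (φ.map_add x y) }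
  have hφF : Function.Surjective φF := by
    intro x
    obtain ⟨r, hr⟩ : (x : κ) ∈ φ.range := x.2
    exact ⟨r, Subtype.ext hr⟩
  -- `R'` is local
  let M := RingHom.ker φ
  have hker : M = RingHom.ker φF := by
    ext r; exact ⟨fun h => Subtype.ext h, fun h => congrArg Subtype.val h⟩
  haveI hM : M.IsMaximal := hker.symm ▸ RingHom.ker_isMaximal_of_surjective φF hφF
  have hmax : ∀ N : Ideal R', N.IsMaximal → N = M := fun N hN => eq_ker_of_isMaximal R j hr hM N hN
  -- a separable extension of the image
  haveI : Algebra.IsSeparable (ResidueField R) κ := inferInstance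
  haveI : Algebra.IsSeparable F κ := Algebra.isSeparable_tower_top_of_isSeparable (ResidueField R) F κ
  have hsep : (minpoly F a).Separable := Algebra.IsSeparable.isSeparable F a
  have hai : IsIntegral F a := IsIntegral.of_finite F a
  haveI : Fact (Irreducible (minpoly F a)) := ⟨minpoly.irreducible hai⟩
  obtain ⟨P, hPmap, -, hPm⟩ := lifts_and_degree_eq_and_monic
    (f := φF) (p := minpoly F a) (Polynomial.map_surjective φF hφF (minpoly F a)) (minpoly.monic hai)
  let R'' := AdjoinRoot P
  have hlocal : IsLocalRing R'' :=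
    isLocalRing_adjoinRoot φF hφF (fun N hN => (hmax N hN).trans hker) P hPm _ hPmap
  -- the base change
  haveI : Module.Free R' R'' := hPm.free_adjoinRoot
  haveI : Module.Finite R' R'' := hPm.finite_adjoinRoot
  let sb : Spec (CommRingCat.of R'') ⟶ Spec (CommRingCat.of R') := Spec.map (CommRingCat.ofHom (algebraMap R' R''))
  haveI : Flat sb := by
    show Flat (Spec.map _)
    rw [HasRingHomProperty.Spec_iff (P := @Flat)]
    exact RingHom.flat_algebraMap_iff.2 inferInstance
  haveI : IsFinite sb := by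
    show IsFinite (Spec.map _)
    rw [IsFinite.SpecMap_iff]
    exact RingHom.finite_algebraMap.2 inferInstance
  let t : X.left ⟶ Spec (CommRingCat.of R') := X.left.toSpecΓ
  let g : pullback t sb ⟶ X.left := pullback.fst t sb
  haveI : IsFinite g := MorphismProperty.pullback_fst (P := @IsFinite) t sb ‹_›
  letI : (pullback t sb).Over (Spec (CommRingCat.of R)) := ⟨g ≫ X.hom⟩
  haveI : IsProper ((pullback t sb) ↘ Spec (CommRingCat.of R)) := inferInstanceAs (IsProper (g ≫ X.hom))
  haveI : CompactSpace X.left := QuasiCompact.compactSpace_of_compactSpace X.hom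
  haveI : QuasiSeparatedSpace X.left := quasiSeparatedSpace_of_quasiSeparated X.hom
  have hpo := Et18.isPushout_appTop_of_flat (IsPullback.of_hasPullback t sb)
  haveI : IsIso t.appTop := by
    show IsIso (Scheme.toSpecΓ X.left).appTop
    rw [Scheme.toSpecΓ_appTop]; infer_instance
  haveI := hpo.isIso_inr_of_isIso
  haveI : IsLocalRing Γ(pullback t sb, ⊤) :=
    ((Scheme.ΓSpecIso (CommRingCat.of R'')).symm.commRingCatIsoToRingEquiv.trans
      (asIso (pullback.snd t sb).appTop).commRingCatIsoToRingEquiv).isLocalRing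
  have hc := Coherent.isPreconnected_closedFibre_of_isLocalRing (A := R) (X := pullback t sb)
  have hz : PrimeSpectrum.zeroLocus (maximalIdeal R : Set R) = {closedPoint R} := by
    rw [← IsLocalRing.isClosed_singleton_closedPoint R |>.closure_eq, PrimeSpectrum.closure_singleton]
    rfl
  rw [hz] at hc
  let j2 := pullback.snd j g
  haveI : PreconnectedSpace ↥(pullback j g) := ⟨by
    refine j2.isEmbedding.isInducing.isPreconnected_image.1 ?_
    rw [Set.image_univ, Scheme.Pullback.range_snd, hr]
    exact hc⟩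
  haveI : CompactSpace Z := QuasiCompact.compactSpace_of_compactSpace j
  haveI : QuasiSeparatedSpace Z := quasiSeparatedSpace_of_quasiSeparated j
  have H2 : IsPullback (pullback.fst j g) (j2 ≫ pullback.snd t sb) (j ≫ t) sb :=
    (IsPullback.of_hasPullback j g).paste_vert (IsPullback.of_hasPullback t sb)
  have hpo2 := Et18.isPushout_appTop_of_flat H2
  let eR' := (Scheme.ΓSpecIso (CommRingCat.of R')).symm.commRingCatIsoToRingEquiv
  let eR'' := (Scheme.ΓSpecIso (CommRingCat.of R'')).symm.commRingCatIsoToRingEquiv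
  let W := Γ(pullback j g, ⊤)
  let μ : R'' →+* W := (j2 ≫ pullback.snd t sb).appTop.hom.comp eR''.toRingHom
  let ν : κ →+* W := (pullback.fst j g).appTop.hom
  have hjt : ∀ r : R', (j ≫ t).appTop.hom (eR' r) = φ r := fun r => by
    rw [Scheme.Hom.comp_appTop]
    show j.appTop (X.left.toSpecΓ.appTop ((Scheme.ΓSpecIso Γ(X.left, ⊤)).inv r)) = φ r
    rw [Scheme.toSpecΓ_appTop, Iso.inv_hom_id_apply]
  have hsb : ∀ r : R', sb.appTop.hom (eR' r) = eR'' (algebraMap R' R'' r) := fun r =>
    (congr($(Scheme.ΓSpecIso_inv_naturality (CommRingCat.ofHom (algebraMap R' R''))) r)).symm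
  have hw : μ.comp (algebraMap R' R'') = ν.comp φ := by
    ext r
    show (j2 ≫ pullback.snd t sb).appTop (eR'' (algebraMap R' R'' r)) = (pullback.fst j g).appTop (φ r)
    rw [← hsb, ← hjt]
    exact (congr($(hpo2.w) (eR' r))).symm
  let Pκ : κ[X] := P.map φ
  have hPκ : Pκ = (minpoly F a).map F.val.toRingHom := by
    rw [← hPmap, Polynomial.map_map]; rfl
  let χ : AdjoinRoot Pκ →+* W := AdjoinRoot.lift ν (μ (AdjoinRoot.root P)) (by
    rw [Polynomial.eval₂_map, ← hw, ← Polynomial.hom_eval₂]
    exact (congrArg μ (AdjoinRoot.eval₂_root P)).trans (map_zero μ))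
  have hβ : Polynomial.eval₂ ((AdjoinRoot.of Pκ).comp φ) (AdjoinRoot.root Pκ) P = 0 := by
    rw [← Polynomial.eval₂_map]; exact AdjoinRoot.eval₂_root _
  let β : R'' →+* AdjoinRoot Pκ := AdjoinRoot.lift ((AdjoinRoot.of Pκ).comp φ) (AdjoinRoot.root Pκ) hβ
  let ψ := hpo2.desc (CommRingCat.ofHom (AdjoinRoot.of Pκ))
    (CommRingCat.ofHom (β.comp eR''.symm.toRingHom)) (by
      ext r0
      obtain ⟨r, rfl⟩ := eR'.surjective r0
      show AdjoinRoot.of Pκ ((j ≫ t).appTop.hom (eR' r)) = β (eR''.symm (sb.appTop.hom (eR' r)))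
      rw [hjt, hsb, RingEquiv.symm_apply_apply]
      exact (AdjoinRoot.lift_of hβ).symm)
  have hψχ : ∀ e, ψ.hom (χ e) = e := by
    refine RingHom.congr_fun (?_ : ψ.hom.comp χ = RingHom.id _)
    refine RingHom.ext fun e => ?_
    obtain ⟨G, rfl⟩ := AdjoinRoot.mk_surjective e
    show ψ.hom (AdjoinRoot.lift ν _ _ (AdjoinRoot.mk Pκ G)) = AdjoinRoot.mk Pκ G
    rw [AdjoinRoot.lift_mk, Polynomial.hom_eval₂]
    have h1 : ψ.hom.comp ν = AdjoinRoot.of Pκ := congrArg CommRingCat.Hom.hom (hpo2.inl_desc _ _ _)
    have h2 : ψ.hom (μ (AdjoinRoot.root P)) = AdjoinRoot.root Pκ := by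
      refine (congr($(hpo2.inr_desc (CommRingCat.ofHom (AdjoinRoot.of Pκ)) _ _) (eR'' (AdjoinRoot.root P)))).trans ?_
      show β (eR''.symm (eR'' _)) = _
      rw [RingEquiv.symm_apply_apply]
      exact AdjoinRoot.lift_root hβ
    rw [h1, h2]
    exact AdjoinRoot.aeval_eq G
  have hid : ∀ e : AdjoinRoot Pκ, e * e = e → e = 0 ∨ e = 1 := fun e he => by
    rcases idempotent_eq_zero_or_one (χ e) (by rw [← map_mul, he]) with h | h
    · exact Or.inl (by rw [← hψχ e, h, map_zero])
    · exact Or.inr (by rw [← hψχ e, h, map_one])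
  have hdeg : Pκ.natDegree = 1 := natDegree_eq_one_of_idempotents Pκ (hPm.map φ) (hPκ ▸ hsep.map) a (by
    rw [hPκ, Polynomial.IsRoot, Polynomial.eval_map]
    exact minpoly.aeval F a) hid
  rw [hPκ, Polynomial.natDegree_map] at hdeg
  obtain ⟨⟨y, r, hry⟩, hy⟩ := minpoly.natDegree_eq_one_iff.1 hdeg
  exact ⟨r, hry.trans hy⟩

end Groth.Agent.Models7.CohFlatNormal
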