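import Groth.Agent.Models7.CohFlatNormal.Basic
import Groth.Agent.Models7.CohFlatTorsion
import Groth.Agent.Coherent.FormalFunctions

/-!
# Functions on the thickenings of the closed fibre lift after multiplication by a bounded power
-/

set_option autoImplicit false
set_option linter.style.haveILetI false
set_option backward.isDefEq.respectTransparency false

universe u

open CategoryTheory CategoryTheory.Limits AlgebraicGeometry Opposite TopologicalSpace
open Groth.Agent.Coherent Groth.Agent.EulerLib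

namespace Groth.Agent.Models7.CohFlatNormal

variable (R : Type u) [CommRing R] [IsDomain R] [IsDiscreteValuationRing R]

/-- The ideal of the `n`th thickening of the closed fibre. -/
noncomputable def powIdeal (X : Over (Spec (CommRingCat.of R))) (n : ℕ) : X.left.IdealSheafData :=
  (Curv2.idealSheaf R (IsLocalRing.maximalIdeal R ^ n)).comap X.hom

theorem ideal_powIdeal {X : Over (Spec (CommRingCat.of R))} {ϖ : R} (hϖ : Irreducible ϖ) (n : ℕ)
    {V : X.left.Opens} (hV : IsAffineOpen V) :
    (powIdeal R X n).ideal ⟨V, hV⟩ = Ideal.span {baseSec R V ϖ ^ n} := by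
  have h : (Curv2.idealSheaf R (IsLocalRing.maximalIdeal R ^ n)).ideal ⟨⊤, isAffineOpen_top _⟩ =
      (IsLocalRing.maximalIdeal R ^ n).map (Scheme.ΓSpecIso (CommRingCat.of R)).inv.hom := by
    simp [Curv2.idealSheaf]
  rw [powIdeal, FSchLib.ideal_comap_eq_map X.hom _ ⟨V, hV⟩ ⟨⊤, isAffineOpen_top _⟩ (fun _ _ => trivial), h,
    Ideal.map_map, hϖ.maximalIdeal_eq, Ideal.span_singleton_pow, Ideal.map_span, Set.image_singleton, ← map_pow]
  rfl

variable {X : Over (Spec (CommRingCat.of R))} [IsIntegral X.left] [IsLocallyNoetherian X.left] [Flat X.hom]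
  [IsProper X.hom]

theorem exists_torsion_bound (hG : Function.Surjective (Coh.toGlobal X.hom)) {ϖ : R} (hϖ : Irreducible ϖ) :
    ∃ N : ℕ, ∀ (n : ℕ) (e : Γ((powIdeal R X n).subscheme, ⊤)), ∃ r : R,
      (powIdeal R X n).subschemeι.appTop (Coh.toGlobal X.hom r) =
        (powIdeal R X n).subschemeι.appTop (Coh.toGlobal X.hom (ϖ ^ N)) * e := by
  letI : X.left.Over (Spec (CommRingCat.of R)) := ⟨X.hom⟩
  haveI : IsProper (X.left ↘ Spec (CommRingCat.of R)) := ‹IsProper X.hom›
  let φ := baseHom R X.left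
  haveI : Module.Finite R (HA φ (Coh.structureModule X.left) (⊤ : X.left.Opens) 1) :=
    finCoh_of_isProper (X.left ↘ Spec (CommRingCat.of R)) _ (isCoh_structureModule X.left) 1
  let M := HA φ (Coh.structureModule X.left) (⊤ : X.left.Opens) 1
  obtain ⟨a, ha0, ha⟩ : ∃ a : R, a ≠ 0 ∧ ∀ x ∈ Submodule.torsion R M, a • x = 0 := by
    classical
    obtain ⟨G, hG'⟩ := IsNoetherian.noetherian (Submodule.torsion R M)
    have hmem : ∀ x ∈ G, ∃ b : R, b ≠ 0 ∧ b • x = 0 := fun x hx => by
      obtain ⟨⟨b, hb⟩, hbx⟩ := (Submodule.mem_torsion_iff x).1 (hG' ▸ Submodule.subset_span hx)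
      exact ⟨b, nonZeroDivisors.ne_zero hb, hbx⟩
    choose! b hb hbx using hmem
    refine ⟨∏ x ∈ G, b x, Finset.prod_ne_zero_iff.2 hb, fun x hx => ?_⟩
    rw [← hG'] at hx
    refine Submodule.span_induction (fun y hy => ?_) (smul_zero _) (fun y z _ _ hy hz => by rw [smul_add, hy, hz, add_zero])
      (fun c y _ hy => by rw [smul_comm, hy, smul_zero]) hx
    rw [← Finset.prod_erase_mul _ _ hy, mul_smul, hbx y hy, smul_zero]
  obtain ⟨N, v, rfl⟩ := IsDiscreteValuationRing.eq_unit_mul_pow_irreducible ha0 hϖ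
  refine ⟨N, fun n e => ?_⟩
  let I := powIdeal R X n
  let μ : Coh.structureModule X.left ⟶ Coh.structureModule X.left := unitDesc (Coh.structureModule X.left) (φ (ϖ ^ n))
  have hμ : ∀ (V : X.left.Opens) (r : Γ(X.left, V)), (show Γ(X.left, V) from μ.app V r) = r * baseSec R V (ϖ ^ n) :=
    fun V r => by
      have h := app_unit μ r
      rw [unitVal_unitDesc] at h
      exact h
  haveI : Mono μ := Preadditive.mono_of_cancel_zero _ fun {P} t ht => Scheme.Modules.hom_ext _ _ fun U => by
    ext m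
    have h0 : μ.app U (t.app U m) = 0 := congrArg (fun z : P ⟶ Coh.structureModule X.left => z.app U m) ht
    rcases isEmpty_or_nonempty U with hU | hU
    · have : Subsingleton Γ(X.left, U) := by
        have : U = ⊥ := Opens.ext (Set.eq_empty_iff_forall_notMem.2 fun x hx => hU.false ⟨x, hx⟩)
        rw [this]; infer_instance
      exact this.elim _ _
    · exact (mul_eq_zero.1 ((hμ U _).symm.trans h0)).resolve_right (baseSec_ne_zero R U (pow_ne_zero n hϖ.ne_zero))
  haveI := AmpleLib.mono_idealModι I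
  have hker : ∀ (V : X.left.Opens), IsAffineOpen V → ∀ (r : Γ(X.left, V)),
      I.subschemeι.app V r = 0 ↔ ∃ s, r = s * baseSec R V (ϖ ^ n) := fun V hV r => by
    rw [← RingHom.mem_ker, I.ker_subschemeι_app ⟨V, hV⟩, ideal_powIdeal R hϖ n hV, ← map_pow,
      Ideal.mem_span_singleton']
    exact exists_congr fun s => eq_comm
  have hcomp : μ ≫ ClSub.toSubscheme I = 0 := by
    refine Scheme.Modules.hom_ext _ _ fun V => ConcreteCategory.hom_ext _ _ fun r => ?_
    show I.subschemeι.app V (μ.app V r) = 0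
    refine TopCat.Presheaf.section_ext I.subscheme.sheaf _ _ _ fun z hz => ?_
    obtain ⟨U, hU, hzU, hUV⟩ := exists_isAffineOpen_mem_and_subset (show I.subschemeι z ∈ V from hz)
    show I.subscheme.presheaf.germ _ z hz (I.subschemeι.app V (μ.app V r)) = I.subscheme.presheaf.germ _ z hz 0
    rw [map_zero, ← TopCat.Presheaf.germ_res_apply I.subscheme.presheaf
      ((Opens.map I.subschemeι.base).map (homOfLE hUV)) z hzU]
    refine (congrArg (I.subscheme.presheaf.germ _ z hzU) ?_).trans (map_zero _)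
    refine (ConcreteCategory.congr_hom (I.subschemeι.naturality (homOfLE hUV).op) _).symm.trans ?_
    exact (hker U hU _).2 ⟨_, (app_resM μ hUV r).symm.trans (hμ U _)⟩
  let ψ : Coh.structureModule X.left ⟶ ClSub.idealMod I := kernel.lift (ClSub.toSubscheme I) μ hcomp
  have hψ : ψ ≫ ClSub.idealModι I = μ := kernel.lift_ι _ _ _
  haveI : Mono ψ := by
    haveI : Mono (ψ ≫ ClSub.idealModι I) := by rw [hψ]; infer_instance
    exact mono_of_mono ψ (ClSub.idealModι I)
  haveI : Epi ψ := epi_of_locally_surjective ψ fun W a y hy => by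
    obtain ⟨V, hV, hyV, hVW⟩ := exists_isAffineOpen_mem_and_subset hy
    obtain ⟨s, hs⟩ := (hker V hV _).1 ((AmpleLib.mem_range_idealModι I V _).1 ⟨resM _ hVW a, rfl⟩)
    refine ⟨V, hVW, hyV, s, app_injective_of_mono (ClSub.idealModι I) V ?_⟩
    exact (congrArg (fun ρ : Coh.structureModule X.left ⟶ Coh.structureModule X.left => ρ.app V s) hψ).trans
      ((hμ V s).trans hs.symm)
  haveI : IsIso ψ := isIso_of_mono_of_epi ψ
  let S : ShortComplex X.left.Modules := ShortComplex.mk μ (ClSub.toSubscheme I) hcomp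
  have hS : S.ShortExact := ShortComplex.shortExact_of_iso
    (ShortComplex.isoMk (asIso ψ).symm (Iso.refl _) (Iso.refl _)
      (by simp [S, ← hψ]) (by simp [S]) :
      ShortComplex.mk (ClSub.idealModι I) (ClSub.toSubscheme I) (kernel.condition _) ≅ S)
    (CurveRR24.shortExact_ideal I)
  let x : M := deltaG φ hS (show GA φ S.X₃ from e)
  have hx : ϖ ^ n • x = 0 := by
    have h : (toAbFunctor X.left).map μ = smulEndAb (Coh.structureModule X.left) (φ (ϖ ^ n)) := by
      ext V r
      refine (hμ V.unop r).trans ((mul_comm _ _).trans ?_)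
      exact (smulEndAb_app (Coh.structureModule X.left) (φ (ϖ ^ n)) V.unop r).symm
    refine Eq.trans ?_ ((exact_deltaA_postA φ hS ⊤ 0).apply_apply_eq_zero ((secA φ S.X₃).symm (show GA φ S.X₃ from e)))
    show postH (smulEndAb (Coh.structureModule X.left) (φ (ϖ ^ n))) 1 ⊤ x = postHM μ 1 ⊤ x
    rw [← h]
    rfl
  have hxN : ϖ ^ N • x = 0 := by
    have := ha x ((Submodule.mem_torsion_iff x).2 ⟨⟨ϖ ^ n, mem_nonZeroDivisors_of_ne_zero (pow_ne_zero n hϖ.ne_zero)⟩, hx⟩)
    rw [mul_smul] at this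
    exact v.isUnit.smul_eq_zero.1 this
  have hxN' : deltaG φ hS (ϖ ^ N • (show GA φ S.X₃ from e)) = 0 := by rw [map_smul]; exact hxN
  obtain ⟨y, hy⟩ := (deltaG_eq_zero_iff φ hS _).1 hxN'
  obtain ⟨r, hr⟩ := hG (show Γ(X.left, ⊤) from y)
  refine ⟨r, ?_⟩
  rw [hr]
  exact hy

end Groth.Agent.Models7.CohFlatNormal
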