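import Groth.Agent.Models7.CohFlatNormal.RootGlue
import Groth.Agent.Models7.CohFlatNormal.PowSeq

/-!
# A relation `a ^ q = π ^ p c` with constant reduction and `q` invertible is impossible
-/

set_option autoImplicit false
set_option linter.style.haveILetI false
set_option backward.isDefEq.respectTransparency false

universe u

open CategoryTheory CategoryTheory.Limits AlgebraicGeometry TopologicalSpace IsLocalRing
open Groth.Agent.Misc15.DivDescent Groth.Agent.SDiv28.CartierPart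

namespace Groth.Agent.Models7.CohFlatNormal

variable (R : Type u) [CommRing R] [IsDomain R] [IsDiscreteValuationRing R]
variable {X : Over (Spec (CommRingCat.of R))} [IsIntegral X.left] [IsLocallyNoetherian X.left] [Flat X.hom]

theorem setup_thickening {ϖ : R} (hϖ : Irreducible ϖ) (n : ℕ) (hn0 : n ≠ 0) {T : Scheme.{u}} [IsReduced T]
    (ρ : T ⟶ X.left) [IsClosedImmersion ρ] (hρ : Set.range ρ.base = Models.specialFibreSet R X) :
    (∀ {V : X.left.Opens}, IsAffineOpen V → ∀ (f : Γ(X.left, V)),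
        (powIdeal R X n).subschemeι.app V f = 0 ↔ baseSec R V ϖ ^ n ∣ f) ∧
    (∀ z, (powIdeal R X n).subschemeι z ∈ Models.specialFibreSet R X) ∧
    ∃ σn : T ⟶ (powIdeal R X n).subscheme, IsClosedImmersion σn ∧ Surjective σn ∧
      Set.range (σn ≫ (powIdeal R X n).subschemeι).base = Models.specialFibreSet R X := by
  have hk : ∀ {V : X.left.Opens}, IsAffineOpen V → ∀ (f : Γ(X.left, V)),
      (powIdeal R X n).subschemeι.app V f = 0 ↔ baseSec R V ϖ ^ n ∣ f := fun {V} hV f => by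
    rw [← RingHom.mem_ker, (powIdeal R X n).ker_subschemeι_app ⟨V, hV⟩, ideal_powIdeal R hϖ n hV,
      Ideal.mem_span_singleton]
  have hπT : ∀ (V : X.left.Opens), ρ.app V (baseSec R V ϖ) = 0 := fun V =>
    app_eq_zero_of_not_isUnit R ρ hρ.le _ fun x hx hxF => by
      rw [germ_baseSec]; exact (mem_fibre_iff R hϖ x).1 hxF
  let jn := (powIdeal R X n).subschemeι
  have hjnF : ∀ z, jn z ∈ Models.specialFibreSet R X := fun z => by
    obtain ⟨V, hV, hzV, -⟩ := exists_isAffineOpen_mem_and_subset (x := jn z) (U := ⊤) trivial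
    refine (mem_fibre_iff R hϖ _).2 fun hu => ?_
    rw [← germ_baseSec R V ϖ _ hzV] at hu
    have h1 := (hu.pow n).map (jn.stalkMap z).hom
    rw [← map_pow, Scheme.Hom.germ_stalkMap_apply, (hk hV _).2 dvd_rfl, map_zero] at h1
    exact not_isUnit_zero h1
  have hle : jn.ker ≤ ρ.ker := Scheme.IdealSheafData.le_def.2 fun U f hf => by
    rw [Scheme.Hom.ker_apply, RingHom.mem_ker] at hf ⊢
    obtain ⟨g, rfl⟩ := (hk U.2 f).1 hf
    rw [map_mul, map_pow, hπT, zero_pow hn0, zero_mul]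
  let σn := IsClosedImmersion.lift jn ρ hle
  have hσn : σn ≫ jn = ρ := IsClosedImmersion.lift_fac jn ρ hle
  haveI : IsClosedImmersion (σn ≫ jn) := hσn.symm ▸ inferInstance
  have hrange : Set.range (σn ≫ jn).base = Models.specialFibreSet R X := by rw [hσn]; exact hρ
  refine ⟨hk, hjnF, σn, IsClosedImmersion.of_comp σn jn, ⟨fun z => ?_⟩, hrange⟩
  obtain ⟨t, ht⟩ := hrange.ge (hjnF z)
  exact ⟨t, jn.isEmbedding.injective ht⟩

theorem false_of_relation_of_isUnit [IsProper X.hom] (hn : Pi1.IsNormalScheme X.left)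
    (hG : Function.Surjective (Coh.toGlobal X.hom)) {ϖ : R} (hϖ : Irreducible ϖ)
    {Z : Scheme.{u}} (j : Z ⟶ X.left) [IsClosedImmersion j] (hj : j.ker = Models.specialFibreIdeal R X)
    (s : Γ(Z, ⊤))
    {T : Scheme.{u}} [IsReduced T] [Nonempty T] (ρ : T ⟶ X.left) [IsClosedImmersion ρ]
    (hρ : Set.range ρ.base = Models.specialFibreSet R X)
    {p q : ℕ} {r₀ : R} (hp : 0 < p) (hpq : p < q) (hq : IsUnit (q : R)) (hr₀ : IsUnit r₀)
    (hrel : ∀ (V : X.left.Opens), IsAffineOpen V → ∀ (a : Γ(X.left, V)),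
        j.app V a = Z.presheaf.map (homOfLE le_top).op s →
        ∃ c : Γ(X.left, V), a ^ q = baseSec R V ϖ ^ p * c ∧
          ∀ x, ∀ hx : x ∈ V, x ∈ Models.specialFibreSet R X →
            ¬ IsUnit (X.left.presheaf.germ V x hx (c - baseSec R V r₀))) : False := by
  obtain ⟨N, hN⟩ := exists_torsion_bound R hG hϖ
  obtain ⟨hkn, hjnF, σn, hσ1, hσ2, hσρ⟩ := setup_thickening R hϖ (N * q + p + 1) (Nat.succ_ne_zero _) ρ hρ
  haveI := hσ1
  haveI := hσ2
  let jn := (powIdeal R X (N * q + p + 1)).subschemeι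
  have hqn : ∀ U : (powIdeal R X (N * q + p + 1)).subscheme.Opens, IsUnit (q : Γ((powIdeal R X (N * q + p + 1)).subscheme, U)) := fun U => by
    simpa using hq.map (((powIdeal R X (N * q + p + 1)).subscheme.presheaf.map (homOfLE (le_top : U ≤ ⊤)).op).hom.comp
      (jn.appTop.hom.comp (Coh.toGlobal X.hom)))
  obtain ⟨e, he⟩ := exists_global R j s jn σn hn hϖ hj hσρ hr₀ hp hpq hjnF hqn hrel
  obtain ⟨r, hr⟩ := hN _ e
  obtain ⟨t⟩ := ‹Nonempty T›
  obtain ⟨V, a, c, w, hV, hzV, ⟨-, hac, -, hw, -⟩, hew⟩ := he (σn t)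
  obtain ⟨wl, hwl⟩ := jn.app_surjective _ hV w
  have h1 : baseSec R V ϖ ^ (N * q + p + 1) ∣ baseSec R V r - baseSec R V (ϖ ^ N) * (a * wl) := by
    refine (hkn hV _).1 ?_
    have h := congrArg ((powIdeal R X (N * q + p + 1)).subscheme.presheaf.map (homOfLE (le_top : jn ⁻¹ᵁ V ≤ ⊤)).op) hr
    rw [map_mul, hew] at h
    rw [map_sub, map_mul, map_mul, hwl, app_baseSec, app_baseSec, sub_eq_zero]
    exact h
  have h2 : baseSec R V ϖ ^ (N * q + p + 1) ∣ c * wl ^ q - baseSec R V r₀ := by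
    refine (hkn hV _).1 ?_
    rw [map_sub, map_mul, map_pow, hwl, hw, sub_self]
  have h3 : baseSec R V ϖ ^ (N * q + p + 1) ∣ baseSec R V (r ^ q - ϖ ^ (N * q + p) * r₀) := by
    have h4 := h1.trans (sub_dvd_pow_sub_pow _ _ q)
    have h5 := h2.mul_left (baseSec R V ϖ ^ (N * q + p))
    have e1 : (baseSec R V (ϖ ^ N) * (a * wl)) ^ q = baseSec R V ϖ ^ (N * q + p) * (c * wl ^ q) := by
      rw [map_pow, mul_pow, mul_pow, hac, ← pow_mul, pow_add]
      ring
    have key : baseSec R V r ^ q - baseSec R V ϖ ^ (N * q + p) * baseSec R V r₀ =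
        (baseSec R V r ^ q - (baseSec R V (ϖ ^ N) * (a * wl)) ^ q) +
          baseSec R V ϖ ^ (N * q + p) * (c * wl ^ q - baseSec R V r₀) := by
      rw [e1]; ring
    rw [map_sub, map_mul, map_pow, map_pow, key]
    exact dvd_add h4 h5
  have hzF := hjnF (σn t)
  have h6 : ϖ ^ (N * q + p + 1) ∣ r ^ q - ϖ ^ (N * q + p) * r₀ := by
    have h7 := map_dvd (X.left.presheaf.germ V (jn (σn t)) hzV).hom h3
    rw [map_pow] at h7
    erw [germ_baseSec, germ_baseSec] at h7
    by_cases hd : r ^ q - ϖ ^ (N * q + p) * r₀ = 0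
    · rw [hd]; exact dvd_zero _
    obtain ⟨k, v, hk⟩ := IsDiscreteValuationRing.eq_unit_mul_pow_irreducible hd hϖ
    rw [hk]
    refine dvd_mul_of_dvd_right (pow_dvd_pow ϖ ?_) _
    rw [hk, map_mul, map_pow, IsUnit.dvd_mul_left (v.isUnit.map (Models.stalkHom R X (jn (σn t))))] at h7
    have hπx : Models.stalkHom R X (jn (σn t)) ϖ ≠ 0 := fun h =>
      hϖ.ne_zero (Inters29.stalkHom_injective R _ (h.trans (map_zero _).symm))
    exact (pow_dvd_pow_iff hπx ((mem_fibre_iff R hϖ _).1 hzF)).1 h7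
  obtain ⟨d, hd⟩ := h6
  have h9 : r ^ q = ϖ ^ (N * q + p) * (r₀ + ϖ * d) := by
    rw [sub_eq_iff_eq_add, pow_succ] at hd
    rw [hd]; ring
  have hu9 : IsUnit (r₀ + ϖ * d) := by
    by_contra hnu
    have := Ideal.sub_mem _ ((IsLocalRing.mem_maximalIdeal _).2 hnu)
      (Ideal.mul_mem_right d _ ((IsLocalRing.mem_maximalIdeal _).2 hϖ.not_isUnit))
    rw [add_sub_cancel_right] at this
    exact this hr₀
  have hr0 : r ≠ 0 := fun h => by
    rw [h, zero_pow (hp.trans hpq).ne'] at h9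
    exact mul_ne_zero (pow_ne_zero _ hϖ.ne_zero) hu9.ne_zero h9.symm
  obtain ⟨k, u, hk⟩ := IsDiscreteValuationRing.eq_unit_mul_pow_irreducible hr0 hϖ
  have h10 : (↑(u ^ q) : R) * ϖ ^ (k * q) = ↑hu9.unit * ϖ ^ (N * q + p) := by
    rw [Units.val_pow_eq_pow_val, IsUnit.unit_spec, mul_comm (r₀ + ϖ * d), ← h9, hk, mul_pow, ← pow_mul]
  have h11 := IsDiscreteValuationRing.unit_mul_pow_congr_pow hϖ hϖ _ _ _ _ h10
  have h12 : q ∣ p := (Nat.dvd_add_right (dvd_mul_left q N)).1 (show q ∣ N * q + p from ⟨k, by rw [mul_comm q k]; exact h11.symm⟩)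
  exact absurd (Nat.le_of_dvd hp h12) (not_le.2 hpq)

end Groth.Agent.Models7.CohFlatNormal
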