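import Groth.Agent.Models7.CohFlatNormal.Section
import Groth.Agent.Models7.CohFlatNormal.Perfect
import Groth.Agent.Models7.CohFlatNormal.Root
import Groth.Agent.EGA43.GeomIntegral.Dvr
import Groth.Agent.HenselLib.SectionsIdem

/-!
# Normal proper models are cohomologically flat in degree zero with a section or in residue characteristic zero
-/

set_option autoImplicit false
set_option linter.style.haveILetI false
set_option backward.isDefEq.respectTransparency false

universe u

open CategoryTheory CategoryTheory.Limits AlgebraicGeometry TopologicalSpace IsLocalRing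

namespace Groth.Agent.Models7.CohFlatNormal

/-- A scheme whose functions are a nontrivial domain is connected. -/
theorem connectedSpace_of_isDomain {X : Scheme.{u}} [IsDomain Γ(X, ⊤)] [Nonempty X] : ConnectedSpace X := by
  haveI : PreconnectedSpace X := by
    refine preconnectedSpace_iff_clopen.2 fun U hU => ?_
    obtain ⟨e, he, heU⟩ := HenselLib.SectionsIdem.exists_idempotent hU
    rcases IsIdempotentElem.iff_eq_zero_or_one.1 he with rfl | rfl
    · left; rw [← heU, Scheme.basicOpen_zero]; rfl
    · right; rw [← heU, X.basicOpen_of_isUnit isUnit_one]; rfl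
  exact ⟨inferInstance⟩

variable (R : Type u) [CommRing R] [IsDomain R] [IsDiscreteValuationRing R]
variable {X : Over (Spec (CommRingCat.of R))} [IsProper X.hom] [Flat X.hom]

theorem surjective_appTop_specialFibre (hn : Pi1.IsNormalScheme X.left) [Nonempty X.left]
    (hG : Function.Bijective (Coh.toGlobal X.hom))
    (h : CharZero (ResidueField R) ∨ ∃ σ : Spec (CommRingCat.of R) ⟶ X.left, σ ≫ X.hom = 𝟙 _) :
    Function.Surjective (Models.specialFibreIdeal R X).subschemeι.appTop := by
  classical
  haveI : IsLocallyNoetherian X.left := LocallyOfFiniteType.isLocallyNoetherian X.hom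
  haveI : CompactSpace X.left := QuasiCompact.compactSpace_of_compactSpace X.hom
  haveI : IsDomain Γ(X.left, ⊤) := (RingEquiv.ofBijective _ hG).symm.toMulEquiv.isDomain
  haveI : ConnectedSpace X.left := connectedSpace_of_isDomain
  haveI : IsIntegral X.left := EGA43.GeomIntegral.isIntegral_of_isDomain_stalk fun x => (hn x).1
  obtain ⟨ϖ, hϖ⟩ := IsDiscreteValuationRing.exists_irreducible R
  let I := Models.specialFibreIdeal R X
  let T := (Models.redFibreIdeal R X).subscheme
  let ρ : T ⟶ X.left := (Models.redFibreIdeal R X).subschemeι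
  have hle : I ≤ Models.redFibreIdeal R X :=
    Scheme.IdealSheafData.le_support_iff_le_vanishingIdeal.1 (fun x hx => (Inters29.support_specialFibreIdeal R).ge hx)
  let τ : T ⟶ I.subscheme := Scheme.IdealSheafData.inclusion hle
  have hτ : τ ≫ I.subschemeι = ρ := Scheme.IdealSheafData.inclusion_subschemeι hle
  have hρ : Set.range ρ.base = Models.specialFibreSet R X := by
    rw [Scheme.IdealSheafData.range_subschemeι]; rfl
  haveI : IsReduced T := Props12.isReduced_subscheme_vanishingIdeal _
  haveI : IsProper (ρ ≫ X.hom) := inferInstance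
  have hconn : _root_.IsConnected (Models.specialFibreSet R X) := by
    letI : X.left.Over (Spec (CommRingCat.of R)) := ⟨X.hom⟩
    haveI : IsProper (X.left ↘ Spec (CommRingCat.of R)) := ‹IsProper X.hom›
    haveI : IsLocalRing Γ(X.left, ⊤) := (RingEquiv.ofBijective _ hG).isLocalRing
    have h2 := Coherent.isPreconnected_closedFibre_of_isLocalRing (A := R) (X := X.left)
    have hz : PrimeSpectrum.zeroLocus (maximalIdeal R : Set R) = {closedPoint R} := by
      rw [← IsLocalRing.isClosed_singleton_closedPoint R |>.closure_eq, PrimeSpectrum.closure_singleton]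
      rfl
    rw [hz] at h2
    refine ⟨?_, h2⟩
    obtain ⟨x, hx⟩ := (IsLocalRing.specializes_closedPoint (X.hom (Classical.arbitrary X.left))).mem_closed
      X.hom.isClosedMap.isClosed_range ⟨_, rfl⟩
    exact ⟨x, hx⟩
  haveI : PreconnectedSpace T := ⟨by
    refine ρ.isEmbedding.isInducing.isPreconnected_image.1 ?_
    rw [Set.image_univ, hρ]; exact hconn.isPreconnected⟩
  haveI : Nonempty T := by
    obtain ⟨x, hx⟩ := hconn.nonempty
    obtain ⟨t, -⟩ := hρ.ge hx
    exact ⟨t⟩
  have hF := isField_fibre R ρ hρ.le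
  -- constants on the reduced fibre
  have hT : ∀ b : Γ(T, ⊤), ∃ r : R, b = ρ.appTop (Coh.toGlobal X.hom r) := by
    intro b
    rcases h with h | ⟨σ, hσ⟩
    · haveI := h
      haveI : PerfectField (ResidueField R) := inferInstance
      let φ : R →+* Γ(T, ⊤) := Coh.toGlobal (ρ ≫ X.hom)
      have hφ : φ.Finite := RingHom.Finite.comp (Coherent.finite_app_of_isProper (ρ ≫ X.hom) (isAffineOpen_top _))
        (RingHom.Finite.of_surjective _ (ConcreteCategory.bijective_of_isIso (Scheme.ΓSpecIso (CommRingCat.of R)).inv).2)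
      have hφ' : ∀ r, φ r = ρ.appTop (Coh.toGlobal X.hom r) := fun r => by
        show (ρ ≫ X.hom).appTop ((Scheme.ΓSpecIso (CommRingCat.of R)).inv r) = _
        rw [Scheme.Hom.comp_appTop]
        rfl
      have hmax : ∀ r ∈ maximalIdeal R, φ r = 0 := fun r hr => by
        rw [hφ']
        refine app_eq_zero_of_not_isUnit R ρ hρ.le (V := ⊤) _ fun x hx hxF => ?_
        obtain ⟨r₁, rfl⟩ := Ideal.mem_span_singleton'.1 (hϖ.maximalIdeal_eq ▸ hr : r ∈ Ideal.span {ϖ})
        show ¬ IsUnit (Models.stalkHom R X x (r₁ * ϖ))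
        rw [map_mul]
        exact fun hu => (mem_fibre_iff R hϖ x).1 hxF (isUnit_of_mul_isUnit_right hu)
      obtain ⟨a, ha⟩ := surjective_appTop_of_perfect R ρ hρ (Ideal.Quotient.lift _ φ hmax) (RingHom.ext fun _ => rfl)
        (RingHom.Finite.of_comp_finite (f := Ideal.Quotient.mk (maximalIdeal R)) (by
          rw [show (Ideal.Quotient.lift _ φ hmax).comp (Ideal.Quotient.mk (maximalIdeal R)) = φ from RingHom.ext fun _ => rfl]
          exact hφ)) hF b
      obtain ⟨r, rfl⟩ := hG.2 a
      exact ⟨r, ha.symm⟩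
    · exact exists_constant R ρ hρ σ hσ hF b
  intro s
  obtain ⟨r, hr⟩ := hT (τ.appTop s)
  refine ⟨Coh.toGlobal X.hom r, (sub_eq_zero.1 (by_contra fun hs => ?_)).symm⟩
  let s' := s - I.subschemeι.appTop (Coh.toGlobal X.hom r)
  have hτs : τ.appTop s' = 0 := by
    show τ.appTop (s - I.subschemeι.appTop (Coh.toGlobal X.hom r)) = 0
    rw [map_sub, hr, sub_eq_zero, ← hτ, Scheme.Hom.comp_appTop]
    rfl
  have hnu : ∀ (V : X.left.Opens) (a : Γ(X.left, V)),
      I.subschemeι.app V a = I.subscheme.presheaf.map (homOfLE le_top).op s' →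
      ∀ x, ∀ hx : x ∈ V, x ∈ Models.specialFibreSet R X → ¬ IsUnit (X.left.presheaf.germ V x hx a) := by
    intro V a ha x hx hxF hu
    obtain ⟨t, rfl⟩ := hρ.ge hxF
    have h0 : ρ.app V a = 0 := by
      have h1 : (τ ≫ I.subschemeι).app V a = 0 := by
        rw [Scheme.Hom.comp_app]
        show τ.app _ (I.subschemeι.app V a) = 0
        rw [ha]
        exact (congr($(τ.naturality (homOfLE (le_top : I.subschemeι ⁻¹ᵁ V ≤ ⊤)).op) s')).trans
          ((congrArg _ hτs).trans (map_zero (T.presheaf.map _).hom))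
      have key : ∀ (ρ' : T ⟶ X.left), ρ' = τ ≫ I.subschemeι → ρ'.app V a = 0 := by
        rintro _ rfl; exact h1
      exact key ρ hτ.symm
    have h2 := hu.map (ρ.stalkMap t).hom
    rw [Scheme.Hom.germ_stalkMap_apply, h0, map_zero] at h2
    exact not_isUnit_zero h2
  obtain ⟨p, q, r₀, hp, hpq, hr₀, hrel⟩ :=
    exists_relation R hn hϖ I.subschemeι (Scheme.IdealSheafData.ker_subschemeι I) s' hs hnu ρ hρ hT
  rcases h with h | ⟨σ, hσ⟩
  · haveI := h
    refine false_of_relation_of_isUnit R hn hG.2 hϖ I.subschemeι (Scheme.IdealSheafData.ker_subschemeι I) s' ρ hρ hp hpq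
      ?_ hr₀ hrel
    by_contra hq
    have h3 : IsLocalRing.residue R (q : R) = 0 := Ideal.Quotient.eq_zero_iff_mem.2 hq
    rw [map_natCast, Nat.cast_eq_zero] at h3
    omega
  · obtain ⟨V, hV, hxV, -⟩ := exists_isAffineOpen_mem_and_subset (x := σ (closedPoint R)) (U := ⊤) trivial
    obtain ⟨a, ha⟩ := I.subschemeι.app_surjective V hV (I.subscheme.presheaf.map (homOfLE le_top).op s')
    obtain ⟨c, hc, hcr⟩ := hrel V hV a ha
    refine false_of_relation R σ hσ hϖ hp hpq hxV hc ?_
    have hxF := mem_fibre_closedPoint R σ hσ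
    by_contra hcu
    refine hcr _ hxV hxF ?_
    rw [map_sub, germ_baseSec]
    by_contra hsub
    have := Ideal.sub_mem _ ((IsLocalRing.mem_maximalIdeal _).2 hcu) ((IsLocalRing.mem_maximalIdeal _).2 hsub)
    rw [sub_sub_cancel] at this
    exact this (hr₀.map _)

end Groth.Agent.Models7.CohFlatNormal
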