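import Groth.Agent.Models7.CohFlatNormal.Basic
import Groth.Agent.Inters29.NilOrder
import Mathlib.RingTheory.Valuation.ValuationRing

/-!
# The relation `a ^ q = π ^ p c` of a function on the closed fibre of a normal model
-/

set_option autoImplicit false
set_option linter.style.haveILetI false
set_option backward.isDefEq.respectTransparency false

universe u

open CategoryTheory CategoryTheory.Limits AlgebraicGeometry TopologicalSpace IsLocalRing
open Groth.Agent.Misc15.DivDescent Groth.Agent.SDiv28.CartierPart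

namespace Groth.Agent.Models7.CohFlatNormal

/-- Changing a lift modulo `π` changes `a ^ q / π ^ p` by a non-unit, for `p < q`. -/
theorem exists_pow_add {O : Type*} [CommRing O] [IsDomain O] [IsDiscreteValuationRing O] {π a w c : O}
    (hπ : π ∈ maximalIdeal O) {p q : ℕ} (hpq : p < q) (h : a ^ q = π ^ p * c) :
    ∃ d ∈ maximalIdeal O, (a + π * w) ^ q = π ^ p * (c + d) := by
  obtain ⟨l, rfl⟩ : ∃ l, q = p + (l + 1) := ⟨q - p - 1, by omega⟩
  by_cases hπa : π ∣ a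
  · obtain ⟨v, rfl⟩ := hπa
    refine ⟨π * (π ^ l * ((v + w) ^ (p + (l + 1)) - v ^ (p + (l + 1)))), Ideal.mul_mem_right _ _ hπ, ?_⟩
    rw [mul_add (π ^ p), ← h, ← mul_add π v w, mul_pow, mul_pow]
    ring
  · obtain ⟨t, ht⟩ : a ∣ π := (ValuationRing.dvd_total a π).resolve_right hπa
    have htm : t ∈ maximalIdeal O := fun hu => hπa (ht ▸ (hu.mul_right_dvd).2 dvd_rfl)
    obtain ⟨z, hz⟩ := sub_dvd_pow_sub_pow (1 + t * w) 1 (p + (l + 1))
    refine ⟨c * (t * (w * z)), Ideal.mul_mem_left _ _ (Ideal.mul_mem_right _ _ htm), ?_⟩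
    have hz' : (1 + t * w) ^ (p + (l + 1)) = 1 + t * (w * z) := by
      rw [one_pow, add_sub_cancel_left, sub_eq_iff_eq_add] at hz
      rw [hz]; ring
    calc (a + π * w) ^ (p + (l + 1)) = a ^ (p + (l + 1)) * (1 + t * w) ^ (p + (l + 1)) := by
          rw [← mul_pow, ht]; ring
      _ = π ^ p * (c + c * (t * (w * z))) := by rw [h, hz']; ring

/-- The exponents of an element not divisible by `π`. -/
theorem exists_exponents {O : Type*} [CommRing O] [IsDomain O] [IsDiscreteValuationRing O] {π a : O}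
    (hπ : π ≠ 0) (ha : a ∈ maximalIdeal O) (hna : ¬ π ∣ a) :
    ∃ e m : ℕ, 0 < e ∧ e < m ∧ (∀ p q : ℕ, p * m ≤ q * e → π ^ p ∣ a ^ q) ∧
      ∃ u : Oˣ, a ^ m = π ^ e * u := by
  obtain ⟨t, ht⟩ := IsDiscreteValuationRing.exists_irreducible O
  have ha0 : a ≠ 0 := fun h => hna (h ▸ dvd_zero π)
  obtain ⟨m, u, rfl⟩ := IsDiscreteValuationRing.eq_unit_mul_pow_irreducible hπ ht
  obtain ⟨e, v, rfl⟩ := IsDiscreteValuationRing.eq_unit_mul_pow_irreducible ha0 ht
  refine ⟨e, m, Nat.pos_of_ne_zero fun h => ?_, ?_, fun p q h => ?_, v ^ m * (u ^ e)⁻¹, ?_⟩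
  · rw [h, pow_zero, mul_one] at ha
    exact ha v.isUnit
  · by_contra hle
    exact hna ((Units.mul_left_dvd).2 ((pow_dvd_pow t (not_lt.1 hle)).trans (Dvd.intro_left _ rfl)))
  · rw [mul_pow, mul_pow, ← pow_mul, ← pow_mul, ← Units.val_pow_eq_pow_val, ← Units.val_pow_eq_pow_val,
      Units.mul_left_dvd]
    refine (pow_dvd_pow t ?_).trans (Dvd.intro_left _ rfl)
    rw [mul_comm m, mul_comm e]
    exact h
  · rw [mul_pow, mul_pow, ← pow_mul, ← pow_mul, mul_comm e m, mul_right_comm, ← Units.val_pow_eq_pow_val,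
      ← Units.val_pow_eq_pow_val, ← Units.val_mul, mul_comm (u ^ e), mul_assoc, inv_mul_cancel, mul_one]

variable (R : Type u) [CommRing R] [IsDomain R] [IsDiscreteValuationRing R]
variable {X : Over (Spec (CommRingCat.of R))}

/-- A function vanishes on a reduced subscheme supported on the closed fibre if it is a non-unit there. -/
theorem app_eq_zero_of_not_isUnit {T : Scheme.{u}} [IsReduced T] (ρ : T ⟶ X.left)
    (hρ : Set.range ρ.base ⊆ Models.specialFibreSet R X) {V : X.left.Opens} (f : Γ(X.left, V))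
    (h : ∀ x, ∀ hx : x ∈ V, x ∈ Models.specialFibreSet R X → ¬ IsUnit (X.left.presheaf.germ V x hx f)) :
    ρ.app V f = 0 := by
  refine (basicOpen_eq_bot_iff (X := T) _).1 (Opens.ext (Set.eq_empty_iff_forall_notMem.2 fun z hz => ?_))
  have hzV : ρ z ∈ V := T.basicOpen_le _ hz
  rw [SetLike.mem_coe, ← Scheme.preimage_basicOpen] at hz
  exact h _ hzV (hρ ⟨z, rfl⟩) ((Scheme.mem_basicOpen X.left f _ hzV).1 hz)

omit [IsDomain R] [IsDiscreteValuationRing R] in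
theorem app_baseSec {T : Scheme.{u}} (ρ : T ⟶ X.left) (V : X.left.Opens) (r : R) :
    ρ.app V (baseSec R V r) = T.presheaf.map (homOfLE (le_top : ρ ⁻¹ᵁ V ≤ ⊤)).op (ρ.appTop (Coh.toGlobal X.hom r)) :=
  congr($(ρ.naturality (homOfLE (le_top : V ≤ ⊤)).op) (Coh.toGlobal X.hom r))

variable [IsIntegral X.left] [IsLocallyNoetherian X.left] [Flat X.hom]

theorem exists_relation [CompactSpace X.left] (hn : Pi1.IsNormalScheme X.left) {ϖ : R} (hϖ : Irreducible ϖ)
    {Z : Scheme.{u}} (j : Z ⟶ X.left) [IsClosedImmersion j] (hj : j.ker = Models.specialFibreIdeal R X)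
    (s : Γ(Z, ⊤)) (hs : s ≠ 0)
    (hnu : ∀ (V : X.left.Opens) (a : Γ(X.left, V)), j.app V a = Z.presheaf.map (homOfLE le_top).op s →
      ∀ x, ∀ hx : x ∈ V, x ∈ Models.specialFibreSet R X → ¬ IsUnit (X.left.presheaf.germ V x hx a))
    {T : Scheme.{u}} [IsReduced T] (ρ : T ⟶ X.left) (hρ : Set.range ρ.base = Models.specialFibreSet R X)
    (hT : ∀ b : Γ(T, ⊤), ∃ r : R, b = ρ.appTop (Coh.toGlobal X.hom r)) :
    ∃ (p q : ℕ) (r₀ : R), 0 < p ∧ p < q ∧ IsUnit r₀ ∧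
      ∀ (V : X.left.Opens), IsAffineOpen V → ∀ (a : Γ(X.left, V)),
        j.app V a = Z.presheaf.map (homOfLE le_top).op s →
        ∃ c : Γ(X.left, V), a ^ q = baseSec R V ϖ ^ p * c ∧
          ∀ x, ∀ hx : x ∈ V, x ∈ Models.specialFibreSet R X →
            ¬ IsUnit (X.left.presheaf.germ V x hx (c - baseSec R V r₀)) := by
  classical
  let π := fun x : X.left => Models.stalkHom R X x ϖ
  have hπ0 : ∀ x : X.left, π x ≠ 0 := fun x h =>
    hϖ.ne_zero (Inters29.stalkHom_injective R x (h.trans (map_zero _).symm))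
  have hπm : ∀ {x : X.left}, x ∈ Models.specialFibreSet R X → π x ∈ maximalIdeal _ := fun h =>
    Inters29.mem_maximalIdeal_stalkHom R hϖ h
  have hlift : ∀ {V : X.left.Opens}, IsAffineOpen V → ∃ a : Γ(X.left, V), j.app V a = Z.presheaf.map (homOfLE le_top).op s :=
    fun hV => j.app_surjective _ hV _
  have hdiff : ∀ {V V' : X.left.Opens} {a : Γ(X.left, V)} {a' : Γ(X.left, V')},
      j.app V a = Z.presheaf.map (homOfLE le_top).op s → j.app V' a' = Z.presheaf.map (homOfLE le_top).op s →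
      ∀ {x : X.left} (hx : x ∈ V) (hx' : x ∈ V'),
        ∃ w, X.left.presheaf.germ V x hx a = X.left.presheaf.germ V' x hx' a' + π x * w := by
    intro V V' a a' ha ha' x hx hx'
    have h := Inters29.germ_sub_mem_stk R j s ha ha' hx hx'
    rw [hj, Inters29.stk_specialFibreIdeal_span R hϖ, Ideal.mem_span_singleton] at h
    obtain ⟨w, hw⟩ := h
    exact ⟨w, by rw [← hw, add_sub_cancel]⟩
  let S := {ξ : X.left | IsFibMax R ξ}
  have hcover : ∀ x : X.left, ∃ V : X.left.Opens, IsAffineOpen V ∧ x ∈ V := fun x => by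
    obtain ⟨V, hV, hx, -⟩ := exists_isAffineOpen_mem_and_subset (x := x) (U := ⊤) trivial
    exact ⟨V, hV, hx⟩
  choose Vf hVf hxVf using hcover
  choose af haf using fun x => hlift (hVf x)
  let g := fun x : X.left => X.left.presheaf.germ (Vf x) x (hxVf x) (af x)
  let D := (finite_fibMax R (X := X)).toFinset.filter fun ξ => ¬ π ξ ∣ g ξ
  have hDS : ∀ {ξ}, ξ ∈ D ↔ IsFibMax R ξ ∧ ¬ π ξ ∣ g ξ := fun {ξ} => by simp [D]
  have hexp : ∀ ξ ∈ D, ∃ em : ℕ × ℕ, 0 < em.1 ∧ em.1 < em.2 ∧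
      (∀ p q : ℕ, p * em.2 ≤ q * em.1 → π ξ ^ p ∣ g ξ ^ q) ∧ ∃ u : (X.left.presheaf.stalk ξ)ˣ, g ξ ^ em.2 = π ξ ^ em.1 * u := by
    intro ξ hξ
    obtain ⟨hξS, hnd⟩ := hDS.1 hξ
    haveI := stalk_dvr R hn hξS
    obtain ⟨e, m, h1, h2, h3, h4⟩ := exists_exponents (hπ0 ξ) (hnu _ _ (haf ξ) ξ (hxVf ξ) hξS.1) hnd
    exact ⟨⟨e, m⟩, h1, h2, h3, h4⟩
  have hDne : D.Nonempty := by
    by_contra hDe
    refine hs (TopCat.Sheaf.eq_of_locally_eq' Z.sheaf (fun x : X.left => j ⁻¹ᵁ Vf x) ⊤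
      (fun x => homOfLE le_top) (fun z _ => Opens.mem_iSup.2 ⟨j z, hxVf _⟩) s 0 fun x => ?_)
    obtain ⟨c, hc⟩ := exists_eq_baseSec_mul R hn hϖ (hVf x) (af x) 1 fun ξ hξ hξS => by
      rw [pow_one]
      obtain ⟨w, hw⟩ := hdiff (haf x) (haf ξ) hξ (hxVf ξ)
      rw [hw]
      refine dvd_add ?_ (dvd_mul_right _ _)
      by_contra hnd
      exact hDe ⟨ξ, hDS.2 ⟨hξS, hnd⟩⟩
    have h0 : j.app (Vf x) (baseSec R (Vf x) ϖ) = 0 := by
      have hmem : baseSec R (Vf x) ϖ ∈ j.ker.ideal ⟨Vf x, hVf x⟩ := by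
        rw [hj]
        refine (mem_ideal_iff _ ⟨Vf x, hVf x⟩).2 fun y hy => ?_
        rw [Inters29.stk_specialFibreIdeal_span R hϖ, germ_baseSec]
        exact Ideal.mem_span_singleton_self _
      rw [Scheme.Hom.ker_apply, RingHom.mem_ker] at hmem
      exact hmem
    show Z.presheaf.map (homOfLE le_top).op s = Z.presheaf.map (homOfLE le_top).op 0
    rw [map_zero, ← haf x, hc, pow_one, map_mul, h0, zero_mul]
  choose! em hem using hexp
  obtain ⟨ξ₀, hξ₀, hmin⟩ := D.exists_min_image (fun ξ => ((em ξ).1 : ℚ) / (em ξ).2) hDne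
  obtain ⟨hp, hpq, -, u₀, hu₀⟩ := hem ξ₀ hξ₀
  set p := (em ξ₀).1
  set q := (em ξ₀).2
  have hdvd : ∀ ξ, IsFibMax R ξ → π ξ ^ p ∣ g ξ ^ q := by
    intro ξ hξ
    by_cases hξD : ξ ∈ D
    · obtain ⟨h1, h2, h3, -⟩ := hem ξ hξD
      refine h3 p q ?_
      have h := hmin ξ hξD
      rw [div_le_div_iff₀ (by exact_mod_cast (hp.trans hpq)) (by exact_mod_cast (h1.trans h2))] at h
      have h' : (p * (em ξ).2 : ℕ) ≤ (em ξ).1 * q := by exact_mod_cast h
      linarith [h', mul_comm (em ξ).1 q]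
    · have hd : π ξ ∣ g ξ := by
        by_contra hnd
        exact hξD (hDS.2 ⟨hξ, hnd⟩)
      exact (pow_dvd_pow _ hpq.le).trans (pow_dvd_pow_of_dvd hd q)
  have hrel : ∀ (V : X.left.Opens), IsAffineOpen V → ∀ (a : Γ(X.left, V)),
      j.app V a = Z.presheaf.map (homOfLE le_top).op s → ∃ c : Γ(X.left, V), a ^ q = baseSec R V ϖ ^ p * c := by
    intro V hV a ha
    refine exists_eq_baseSec_mul R hn hϖ hV _ p fun ξ hξ hξS => ?_
    haveI := stalk_dvr R hn hξS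
    obtain ⟨c, hc⟩ := hdvd ξ hξS
    obtain ⟨w, hw⟩ := hdiff ha (haf ξ) hξ (hxVf ξ)
    obtain ⟨d, -, hd⟩ := exists_pow_add (w := w) (hπm hξS.1) hpq hc
    rw [map_pow, hw, hd]
    exact dvd_mul_right _ _
  have hgerm : ∀ {V : X.left.Opens} {a c : Γ(X.left, V)}, a ^ q = baseSec R V ϖ ^ p * c →
      ∀ {x : X.left} (hx : x ∈ V),
        X.left.presheaf.germ V x hx a ^ q = π x ^ p * X.left.presheaf.germ V x hx c := by
    intro V a c h x hx
    rw [← map_pow, h, map_mul, map_pow, germ_baseSec]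
  -- the quotient is independent of the lift on the reduced fibre
  have hind : ∀ {V V' : X.left.Opens} {a c : Γ(X.left, V)} {a' c' : Γ(X.left, V')},
      j.app V a = Z.presheaf.map (homOfLE le_top).op s → j.app V' a' = Z.presheaf.map (homOfLE le_top).op s →
      a ^ q = baseSec R V ϖ ^ p * c → a' ^ q = baseSec R V' ϖ ^ p * c' →
      ∀ {x : X.left} (hx : x ∈ V) (hx' : x ∈ V'), IsFibMax R x →
        ¬ IsUnit (X.left.presheaf.germ V x hx c - X.left.presheaf.germ V' x hx' c') := by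
    intro V V' a c a' c' ha ha' hc hc' x hx hx' hxS
    haveI := stalk_dvr R hn hxS
    obtain ⟨w, hw⟩ := hdiff ha ha' hx hx'
    obtain ⟨d, hd, hd'⟩ := exists_pow_add (w := w) (hπm hxS.1) hpq (hgerm hc' hx')
    rw [← hw, hgerm hc hx] at hd'
    rw [mul_left_cancel₀ (pow_ne_zero p (hπ0 x)) hd', add_sub_cancel_left]
    exact hd
  choose cf hcf using fun x => hrel (Vf x) (hVf x) (af x) (haf x)
  obtain ⟨b, hb, -⟩ : ∃! b : Γ(T, ⊤), ∀ x : X.left,
      T.presheaf.map (homOfLE (le_top : ρ ⁻¹ᵁ Vf x ≤ ⊤)).op b = ρ.app (Vf x) (cf x) := by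
    refine T.sheaf.existsUnique_gluing' (fun x => ρ ⁻¹ᵁ Vf x) ⊤ (fun x => homOfLE le_top)
      (fun z _ => Opens.mem_iSup.2 ⟨ρ z, hxVf _⟩) (fun x => ρ.app (Vf x) (cf x)) fun x y => ?_
    show T.presheaf.map _ (ρ.app (Vf x) (cf x)) = T.presheaf.map _ (ρ.app (Vf y) (cf y))
    have h0 : ρ.app (Vf x ⊓ Vf y) (X.left.presheaf.map (homOfLE (inf_le_left : Vf x ⊓ Vf y ≤ Vf x)).op (cf x) -
        X.left.presheaf.map (homOfLE (inf_le_right : Vf x ⊓ Vf y ≤ Vf y)).op (cf y)) = 0 := by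
      refine app_eq_zero_of_not_isUnit R ρ hρ.le _ fun z hz hzF => not_isUnit_of_fibMax R _ (fun ξ hξ hξS => ?_) z hz hzF
      rw [map_sub, TopCat.Presheaf.germ_res_apply, TopCat.Presheaf.germ_res_apply]
      exact hind (haf x) (haf y) (hcf x) (hcf y) hξ.1 hξ.2 hξS
    rw [map_sub, sub_eq_zero] at h0
    refine Eq.trans ?_ (h0.trans ?_)
    · exact (congr($(ρ.naturality (homOfLE (inf_le_left : Vf x ⊓ Vf y ≤ Vf x)).op) (cf x))).symm
    · exact congr($(ρ.naturality (homOfLE (inf_le_right : Vf x ⊓ Vf y ≤ Vf y)).op) (cf y))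
  obtain ⟨r₀, rfl⟩ := hT b
  have hkey : ∀ x : X.left, ∀ y, ∀ hy : y ∈ Vf x, y ∈ Models.specialFibreSet R X →
      ¬ IsUnit (X.left.presheaf.germ (Vf x) y hy (cf x - baseSec R (Vf x) r₀)) := by
    intro x y hy hyF hu
    obtain ⟨z, rfl⟩ := hρ.ge hyF
    have h0 : ρ.app (Vf x) (cf x - baseSec R (Vf x) r₀) = 0 := by
      rw [map_sub, app_baseSec, hb x, sub_self]
    have h1 := hu.map (ρ.stalkMap z).hom
    rw [Scheme.Hom.germ_stalkMap_apply, h0, map_zero] at h1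
    exact not_isUnit_zero h1
  have hr₀ : IsUnit r₀ := by
    by_contra hr
    have hξS := (hDS.1 hξ₀).1
    refine hkey ξ₀ ξ₀ (hxVf _) hξS.1 ?_
    haveI := stalk_dvr R hn hξS
    have hc : X.left.presheaf.germ (Vf ξ₀) ξ₀ (hxVf _) (cf ξ₀) = u₀ :=
      mul_left_cancel₀ (pow_ne_zero p (hπ0 ξ₀)) ((hgerm (hcf ξ₀) (hxVf _)).symm.trans hu₀)
    rw [map_sub, hc, germ_baseSec, ← IsLocalRing.notMem_maximalIdeal]
    intro hmem
    have hrm : Models.stalkHom R X ξ₀ r₀ ∈ maximalIdeal _ := by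
      obtain ⟨r₁, rfl⟩ := Ideal.mem_span_singleton'.1
        (hϖ.maximalIdeal_eq ▸ (IsLocalRing.mem_maximalIdeal r₀).2 hr : r₀ ∈ Ideal.span {ϖ})
      rw [map_mul]
      exact Ideal.mul_mem_left _ _ (hπm hξS.1)
    have := Ideal.add_mem _ hmem hrm
    rw [sub_add_cancel] at this
    exact this u₀.isUnit
  refine ⟨p, q, r₀, hp, hpq, hr₀, fun V hV a ha => ?_⟩
  obtain ⟨c, hc⟩ := hrel V hV a ha
  refine ⟨c, hc, fun x hx hxF => not_isUnit_of_fibMax R _ (fun ξ hξ hξS => ?_) x hx hxF⟩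
  have h1 := hind ha (haf ξ) hc (hcf ξ) hξ (hxVf ξ) hξS
  have h2 := hkey ξ ξ (hxVf ξ) hξS.1
  rw [map_sub, germ_baseSec] at h2 ⊢
  rw [← mem_nonunits_iff, ← IsLocalRing.mem_maximalIdeal] at h1 h2 ⊢
  have := Ideal.add_mem _ h1 h2
  rwa [sub_add_sub_cancel] at this

end Groth.Agent.Models7.CohFlatNormal
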