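import Groth.Agent.Models7.CohFlatNormal.Orders
import Groth.Agent.Models7.PicThick

/-!
# Gluing `a · c ^ (-1/q)` on a thickening of the closed fibre
-/

set_option autoImplicit false
set_option linter.style.haveILetI false
set_option backward.isDefEq.respectTransparency false

universe u

open CategoryTheory CategoryTheory.Limits AlgebraicGeometry TopologicalSpace IsLocalRing Polynomial
open Groth.Agent.Misc15.DivDescent Groth.Agent.SDiv28.CartierPart

namespace Groth.Agent.Models7.CohFlatNormal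

variable (R : Type u) [CommRing R] [IsDomain R] [IsDiscreteValuationRing R]
variable {X : Over (Spec (CommRingCat.of R))} {ϖ : R} {Z : Scheme.{u}} (j : Z ⟶ X.left) (s : Γ(Z, ⊤))
  {Zn T : Scheme.{u}} (jn : Zn ⟶ X.left) (σn : T ⟶ Zn) {p q : ℕ} {r₀ : R}

/-- A lift with unit quotient and a root of the quotient on the thickening. -/
def Good (ϖ : R) (p q : ℕ) (r₀ : R) (V : X.left.Opens) (a c : Γ(X.left, V)) (w : Γ(Zn, jn ⁻¹ᵁ V)) : Prop :=
  IsUnit c ∧ a ^ q = baseSec R V ϖ ^ p * c ∧ σn.app _ w = 1 ∧ jn.app V c * w ^ q = jn.app V (baseSec R V r₀) ∧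
    j.app V a = Z.presheaf.map (homOfLE le_top).op s

theorem congr_reduced [IsReduced T] (hσρ : Set.range (σn ≫ jn).base = Models.specialFibreSet R X)
    {V : X.left.Opens} (f g : Γ(X.left, V))
    (h : ∀ x, ∀ hx : x ∈ V, x ∈ Models.specialFibreSet R X → ¬ IsUnit (X.left.presheaf.germ V x hx (f - g))) :
    σn.app (jn ⁻¹ᵁ V) (jn.app V f) = σn.app (jn ⁻¹ᵁ V) (jn.app V g) := by
  have h0 := app_eq_zero_of_not_isUnit R (σn ≫ jn) hσρ.le (f - g) h
  rw [map_sub, sub_eq_zero, Scheme.Hom.comp_app] at h0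
  exact h0

theorem isUnit_of_congr (hr₀ : IsUnit r₀) {V : X.left.Opens} (c : Γ(X.left, V))
    (h : ∀ x, ∀ hx : x ∈ V, x ∈ Models.specialFibreSet R X → ¬ IsUnit (X.left.presheaf.germ V x hx (c - baseSec R V r₀)))
    (x : X.left) (hx : x ∈ V) (hxF : x ∈ Models.specialFibreSet R X) : IsUnit (X.left.presheaf.germ V x hx c) := by
  by_contra hc
  refine h x hx hxF ?_
  rw [map_sub, germ_baseSec]
  by_contra hcr
  have := Ideal.sub_mem _ ((IsLocalRing.mem_maximalIdeal _).2 hc) ((IsLocalRing.mem_maximalIdeal _).2 hcr)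
  rw [sub_sub_cancel] at this
  exact this (hr₀.map _)

theorem Good.restrict {V W : X.left.Opens} (h : W ≤ V) {a c : Γ(X.left, V)} {w : Γ(Zn, jn ⁻¹ᵁ V)}
    (hg : Good R j s jn σn ϖ p q r₀ V a c w) :
    Good R j s jn σn ϖ p q r₀ W (PicLib.res h a) (PicLib.res h c)
      (PicLib.res ((Opens.map jn.base).map (homOfLE h)).le w) := by
  obtain ⟨h1, h2, h3, h4, h5⟩ := hg
  refine ⟨h1.map _, ?_, ?_, ?_, ?_⟩
  · rw [← map_pow, h2, map_mul, map_pow, show PicLib.res h (baseSec R V ϖ) = baseSec R W ϖ from res_baseSec R h ϖ]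
  · exact (app_res σn _ w).trans ((congrArg _ h3).trans (map_one _))
  · rw [← map_pow, app_res jn h c, ← map_mul, h4, ← app_res jn h,
      show PicLib.res h (baseSec R V r₀) = baseSec R W r₀ from res_baseSec R h r₀]
  · rw [app_res j h a, h5]
    exact PicLib.res_res _ _ _

variable [IsIntegral X.left] [IsLocallyNoetherian X.left] [Flat X.hom]

theorem Good.compat [IsClosedImmersion σn] [Surjective σn] [IsReduced T] (hn : Pi1.IsNormalScheme X.left)
    (hϖ : Irreducible ϖ) [IsClosedImmersion j] (hj : j.ker = Models.specialFibreIdeal R X)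
    (hσρ : Set.range (σn ≫ jn).base = Models.specialFibreSet R X) (hp : 0 < p) (hpq : p < q)
    (hqn : ∀ U : Zn.Opens, IsUnit (q : Γ(Zn, U)))
    {W : X.left.Opens} (hW : IsAffineOpen W) {a c a' c' : Γ(X.left, W)} {w w' : Γ(Zn, jn ⁻¹ᵁ W)}
    (hg : Good R j s jn σn ϖ p q r₀ W a c w) (hg' : Good R j s jn σn ϖ p q r₀ W a' c' w') :
    jn.app W a * w = jn.app W a' * w' := by
  obtain ⟨hc, ha, hw1, hw, hs⟩ := hg
  obtain ⟨hc', ha', hw1', hw', hs'⟩ := hg'
  rcases isEmpty_or_nonempty W with hWe | hWne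
  · have : jn ⁻¹ᵁ W = ⊥ := Opens.ext (Set.eq_empty_iff_forall_notMem.2 fun z hz => hWe.false ⟨jn z, hz⟩)
    have : Subsingleton Γ(Zn, jn ⁻¹ᵁ W) := by rw [this]; infer_instance
    exact this.elim _ _
  haveI : IsIntegrallyClosed Γ(X.left, W) := NormalExtLib.isIntegrallyClosed_sections hn W hW
  let A := Γ(X.left, W)
  have hπ0 : baseSec R W ϖ ≠ 0 := baseSec_ne_zero R W hϖ.ne_zero
  have ha0 : a ≠ 0 := fun h0 => by
    rw [h0, zero_pow (hp.trans hpq).ne'] at ha
    exact mul_ne_zero (pow_ne_zero p hπ0) hc.ne_zero ha.symm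
  have hK : algebraMap A (FractionRing A) a ≠ 0 := (map_ne_zero_iff _ (IsFractionRing.injective A _)).2 ha0
  have e : (algebraMap A (FractionRing A) a' / algebraMap A (FractionRing A) a) ^ q =
      algebraMap A (FractionRing A) (c' * ↑hc.unit⁻¹) := by
    have h1 : a' ^ q = c' * ↑hc.unit⁻¹ * a ^ q := by
      rw [ha', ha, show c' * ↑hc.unit⁻¹ * (baseSec R W ϖ ^ p * c) = baseSec R W ϖ ^ p * c' * (↑hc.unit⁻¹ * c) by ring,
        hc.val_inv_mul, mul_one]
    rw [div_pow, div_eq_iff (pow_ne_zero q hK), ← map_pow, ← map_pow, h1, map_mul]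
  obtain ⟨θ, hθ⟩ := IsIntegrallyClosed.exists_algebraMap_eq_of_isIntegral_pow (R := A) (hp.trans hpq)
    (x := algebraMap A (FractionRing A) a' / algebraMap A (FractionRing A) a) (by rw [e]; exact isIntegral_algebraMap)
  have haθ : a' = a * θ := IsFractionRing.injective A (FractionRing A) (by
    rw [map_mul, hθ, mul_div_cancel₀ _ hK])
  have hθc : θ ^ q * c = c' := by
    refine mul_left_cancel₀ (pow_ne_zero p hπ0) ?_
    rw [← ha', haθ, mul_pow, ha]; ring
  have hθ1 : ∀ x, ∀ hx : x ∈ W, x ∈ Models.specialFibreSet R X → ¬ IsUnit (X.left.presheaf.germ W x hx (θ - 1)) := by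
    intro x hx hxF hu
    have h := Inters29.germ_sub_mem_stk R j s hs' hs hx hx
    rw [hj, Inters29.stk_specialFibreIdeal_span R hϖ, Ideal.mem_span_singleton, ← map_sub, haθ,
      show a * θ - a = a * (θ - 1) by ring, map_mul, IsUnit.dvd_mul_right hu] at h
    obtain ⟨v, hv⟩ := h
    obtain ⟨l, rfl⟩ : ∃ l, q = p + (l + 1) := ⟨q - p - 1, by omega⟩
    have h1 := congrArg (X.left.presheaf.germ W x hx) ha
    rw [map_pow, hv, map_mul, map_pow, germ_baseSec, mul_pow, pow_add (Models.stalkHom R X x ϖ), mul_assoc] at h1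
    have hπx : Models.stalkHom R X x ϖ ≠ 0 := fun h =>
      hϖ.ne_zero (Inters29.stalkHom_injective R x (h.trans (map_zero _).symm))
    have h2 := mul_left_cancel₀ (pow_ne_zero p hπx) h1
    refine (mem_fibre_iff R hϖ x).1 hxF ((isUnit_pow_iff l.succ_ne_zero).1
      (isUnit_of_mul_isUnit_left (y := v ^ (p + (l + 1))) ?_))
    rw [h2]
    exact hc.map _
  have h11 : σn.app (jn ⁻¹ᵁ W) (jn.app W θ) = 1 := by
    rw [congr_reduced R jn σn hσρ θ 1 hθ1, map_one, map_one]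
  have hder : IsUnit (σn.app (jn ⁻¹ᵁ W) (jn.app W c)) ∧ IsUnit (σn.app (jn ⁻¹ᵁ W) (q : Γ(Zn, jn ⁻¹ᵁ W))) :=
    ⟨(hc.map (jn.app W).hom).map (σn.app _).hom, (hqn _).map (σn.app _).hom⟩
  have hθw : jn.app W θ * w' = w := by
    refine eq_of_root σn (Polynomial.C (jn.app W c) * Polynomial.X ^ q - Polynomial.C (jn.app W (baseSec R W r₀))) ?_ ?_ ?_ ?_
    · rw [map_mul, h11, hw1', mul_one, hw1]
    · rw [eval_sub, eval_mul, eval_C, eval_pow, eval_X, eval_C, mul_pow, ← mul_assoc, mul_comm (jn.app W c),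
        ← map_pow, ← map_mul, hθc, hw', sub_self]
    · rw [eval_sub, eval_mul, eval_C, eval_pow, eval_X, eval_C, hw, sub_self]
    · rw [derivative_sub, derivative_C, sub_zero, derivative_C_mul, derivative_X_pow, eval_mul, eval_C, eval_mul,
        eval_C, eval_pow, eval_X, map_mul, map_mul, map_pow, map_mul, h11, hw1', one_mul, one_pow, mul_one]
      exact hder.1.mul hder.2
  rw [haθ, map_mul, mul_assoc, hθw]

omit [IsIntegral X.left] [IsLocallyNoetherian X.left] [Flat X.hom] in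
theorem exists_good [IsClosedImmersion jn] [IsClosedImmersion σn] [Surjective σn] [IsReduced T] [IsClosedImmersion j]
    (hσρ : Set.range (σn ≫ jn).base = Models.specialFibreSet R X) (hr₀ : IsUnit r₀)
    (hjnF : ∀ z : Zn, jn z ∈ Models.specialFibreSet R X) (hqn : ∀ U : Zn.Opens, IsUnit (q : Γ(Zn, U)))
    (hrel : ∀ (V : X.left.Opens), IsAffineOpen V → ∀ (a : Γ(X.left, V)),
        j.app V a = Z.presheaf.map (homOfLE le_top).op s →
        ∃ c : Γ(X.left, V), a ^ q = baseSec R V ϖ ^ p * c ∧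
          ∀ x, ∀ hx : x ∈ V, x ∈ Models.specialFibreSet R X →
            ¬ IsUnit (X.left.presheaf.germ V x hx (c - baseSec R V r₀)))
    (z : Zn) :
    ∃ (V : X.left.Opens) (a c : Γ(X.left, V)) (w : Γ(Zn, jn ⁻¹ᵁ V)),
      IsAffineOpen V ∧ jn z ∈ V ∧ Good R j s jn σn ϖ p q r₀ V a c w := by
  obtain ⟨V₀, hV₀, hzV₀, -⟩ := exists_isAffineOpen_mem_and_subset (x := jn z) (U := ⊤) trivial
  obtain ⟨a₀, ha₀⟩ := j.app_surjective V₀ hV₀ (Z.presheaf.map (homOfLE le_top).op s)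
  obtain ⟨c₀, hc₀, hc₀'⟩ := hrel V₀ hV₀ a₀ ha₀
  have hzc : jn z ∈ X.left.basicOpen c₀ :=
    (Scheme.mem_basicOpen X.left c₀ _ hzV₀).2 (isUnit_of_congr R hr₀ c₀ hc₀' _ hzV₀ (hjnF z))
  let V := X.left.basicOpen c₀
  have hV : IsAffineOpen V := hV₀.basicOpen c₀
  have hle := X.left.basicOpen_le c₀
  have hcr : ∀ x, ∀ hx : x ∈ V, x ∈ Models.specialFibreSet R X →
      ¬ IsUnit (X.left.presheaf.germ V x hx (PicLib.res hle c₀ - baseSec R V r₀)) := fun x hx hxF => by
    rw [show baseSec R V r₀ = PicLib.res hle (baseSec R V₀ r₀) from (res_baseSec R hle r₀).symm, ← map_sub]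
    show ¬ IsUnit (X.left.presheaf.germ V x hx (X.left.presheaf.map (homOfLE hle).op _))
    rw [TopCat.Presheaf.germ_res_apply]
    exact hc₀' x (hle hx) hxF
  have hunit : IsUnit (PicLib.res hle c₀) := RingedSpace.isUnit_res_basicOpen _ c₀
  obtain ⟨w, ⟨hw1, hw2⟩, -⟩ := existsUnique_root σn (hV.preimage jn)
    (Polynomial.C (jn.app V (PicLib.res hle c₀)) * Polynomial.X ^ q - Polynomial.C (jn.app V (baseSec R V r₀))) 1
    (by rw [eval₂_sub, eval₂_mul, eval₂_C, eval₂_X_pow, eval₂_C, one_pow, mul_one, sub_eq_zero]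
        exact congr_reduced R jn σn hσρ _ _ hcr)
    (by rw [derivative_sub, derivative_C, sub_zero, derivative_C_mul, derivative_X_pow, eval₂_mul, eval₂_C, eval₂_mul,
          eval₂_C, eval₂_X_pow, one_pow, mul_one]
        exact ((hunit.map (jn.app V).hom).map (σn.app _).hom).mul ((hqn _).map (σn.app _).hom))
  refine ⟨V, PicLib.res hle a₀, PicLib.res hle c₀, w, hV, hzc, hunit, ?_, hw1, ?_, ?_⟩
  · rw [← map_pow, hc₀, map_mul, map_pow, show PicLib.res hle (baseSec R V₀ ϖ) = baseSec R V ϖ from res_baseSec R hle ϖ]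
  · rw [eval_sub, eval_mul, eval_C, eval_pow, eval_X, eval_C, sub_eq_zero] at hw2
    exact hw2
  · rw [app_res j hle a₀, ha₀]
    exact PicLib.res_res _ _ _

theorem exists_global [IsClosedImmersion jn] [IsClosedImmersion σn] [Surjective σn] [IsReduced T] [IsClosedImmersion j]
    (hn : Pi1.IsNormalScheme X.left) (hϖ : Irreducible ϖ) (hj : j.ker = Models.specialFibreIdeal R X)
    (hσρ : Set.range (σn ≫ jn).base = Models.specialFibreSet R X) (hr₀ : IsUnit r₀) (hp : 0 < p) (hpq : p < q)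
    (hjnF : ∀ z : Zn, jn z ∈ Models.specialFibreSet R X) (hqn : ∀ U : Zn.Opens, IsUnit (q : Γ(Zn, U)))
    (hrel : ∀ (V : X.left.Opens), IsAffineOpen V → ∀ (a : Γ(X.left, V)),
        j.app V a = Z.presheaf.map (homOfLE le_top).op s →
        ∃ c : Γ(X.left, V), a ^ q = baseSec R V ϖ ^ p * c ∧
          ∀ x, ∀ hx : x ∈ V, x ∈ Models.specialFibreSet R X →
            ¬ IsUnit (X.left.presheaf.germ V x hx (c - baseSec R V r₀))) :
    ∃ e : Γ(Zn, ⊤), ∀ z : Zn, ∃ (V : X.left.Opens) (a c : Γ(X.left, V)) (w : Γ(Zn, jn ⁻¹ᵁ V)),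
      IsAffineOpen V ∧ jn z ∈ V ∧ Good R j s jn σn ϖ p q r₀ V a c w ∧
        Zn.presheaf.map (homOfLE (le_top : jn ⁻¹ᵁ V ≤ ⊤)).op e = jn.app V a * w := by
  choose Vz az cz wz hVz hzVz hgood using exists_good R j s jn σn hσρ hr₀ hjnF hqn hrel
  choose W hW hyW hWle using fun (z z' : Zn) (y : (Vz z ⊓ Vz z' : X.left.Opens)) =>
    exists_isAffineOpen_mem_and_subset (x := (y : X.left)) (U := Vz z ⊓ Vz z') y.2
  replace hWle : ∀ z z' y, W z z' y ≤ Vz z ⊓ Vz z' := hWle
  obtain ⟨(e : Γ(Zn, ⊤)), he, -⟩ := TopCat.Sheaf.existsUnique_gluing' Zn.sheaf (fun z => jn ⁻¹ᵁ Vz z) ⊤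
    (fun z => homOfLE le_top) (fun z _ => Opens.mem_iSup.2 ⟨z, hzVz z⟩) (fun z => jn.app (Vz z) (az z) * wz z)
    (fun z z' => by
      show PicLib.res inf_le_left (jn.app (Vz z) (az z) * wz z) = PicLib.res inf_le_right (jn.app (Vz z') (az z') * wz z')
      refine TopCat.Sheaf.eq_of_locally_eq' Zn.sheaf (fun y => jn ⁻¹ᵁ W z z' y) (jn ⁻¹ᵁ Vz z ⊓ jn ⁻¹ᵁ Vz z')
        (fun y => (Opens.map jn.base).map (homOfLE (hWle z z' y)))
        (fun x hx => Opens.mem_iSup.2 ⟨⟨jn x, hx⟩, hyW z z' ⟨jn x, hx⟩⟩) _ _ fun y => ?_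
      show PicLib.res ((Opens.map jn.base).map (homOfLE (hWle z z' y))).le _ =
        PicLib.res ((Opens.map jn.base).map (homOfLE (hWle z z' y))).le _
      refine (PicLib.res_res _ _ _).trans (Eq.trans ?_ (PicLib.res_res _ _ _).symm)
      have h := Good.compat R j s jn σn hn hϖ hj hσρ hp hpq hqn (hW z z' y)
        ((hgood z).restrict R j s jn σn (fun u hu => (hWle z z' y hu).1))
        ((hgood z').restrict R j s jn σn (fun u hu => (hWle z z' y hu).2))
      rw [app_res jn, app_res jn, ← map_mul, ← map_mul] at h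
      exact h)
  exact ⟨e, fun z => ⟨Vz z, az z, cz z, wz z, hVz z, hzVz z, hgood z, he z⟩⟩

end Groth.Agent.Models7.CohFlatNormal
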