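import Groth.Agent.Models7.CohFlatNormal.Orders
import Groth.Agent.Inters29.Constants
import Groth.Agent.Coherent.NormalPush

/-!
# A section forces cohomological flatness of a normal proper model
-/

set_option autoImplicit false
set_option linter.style.haveILetI false
set_option backward.isDefEq.respectTransparency false

universe u

open CategoryTheory CategoryTheory.Limits AlgebraicGeometry TopologicalSpace IsLocalRing

namespace Groth.Agent.Models7.CohFlatNormal

variable (R : Type u) [CommRing R] [IsDomain R] [IsDiscreteValuationRing R]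
variable {X : Over (Spec (CommRingCat.of R))} {T : Scheme.{u}} [IsReduced T] (ρ : T ⟶ X.left)
  (hρ : Set.range ρ.base = Models.specialFibreSet R X)

omit [IsReduced T] in
/-- The functions on a reduced proper connected closed fibre form a field. -/
theorem isField_fibre [IsReduced T] [IsProper (ρ ≫ X.hom)] [PreconnectedSpace T] [Nonempty T]
    (hρ' : Set.range ρ.base ⊆ Models.specialFibreSet R X) : IsField Γ(T, ⊤) := by
  let φ : R →+* Γ(T, ⊤) := Coh.toGlobal (ρ ≫ X.hom)
  have hφ : φ.Finite := RingHom.Finite.comp (Coherent.finite_app_of_isProper (ρ ≫ X.hom) (isAffineOpen_top _))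
    (RingHom.Finite.of_surjective _ (ConcreteCategory.bijective_of_isIso (Scheme.ΓSpecIso (CommRingCat.of R)).inv).2)
  have hmax : ∀ r ∈ maximalIdeal R, φ r = 0 := fun r hr => by
    have h0 : ρ.app ⊤ (Coh.toGlobal X.hom r) = 0 :=
      app_eq_zero_of_not_isUnit R ρ hρ' (V := ⊤) _ fun x hx hxF => by
        obtain ⟨ϖ, hϖ⟩ := IsDiscreteValuationRing.exists_irreducible R
        obtain ⟨r₁, rfl⟩ := Ideal.mem_span_singleton'.1 (hϖ.maximalIdeal_eq ▸ hr : r ∈ Ideal.span {ϖ})
        show ¬ IsUnit (Models.stalkHom R X x (r₁ * ϖ))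
        rw [map_mul]
        exact fun hu => (mem_fibre_iff R hϖ x).1 hxF (isUnit_of_mul_isUnit_right hu)
    refine Eq.trans ?_ h0
    show (ρ ≫ X.hom).appTop ((Scheme.ΓSpecIso (CommRingCat.of R)).inv r) = _
    rw [Scheme.Hom.comp_appTop]
    rfl
  let φk : ResidueField R →+* Γ(T, ⊤) := Ideal.Quotient.lift _ φ hmax
  letI : Algebra (ResidueField R) Γ(T, ⊤) := φk.toAlgebra
  haveI : Module.Finite (ResidueField R) Γ(T, ⊤) :=
    RingHom.finite_algebraMap.1 (RingHom.Finite.of_comp_finite (f := Ideal.Quotient.mk (maximalIdeal R)) (g := φk) (by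
      rw [show φk.comp (Ideal.Quotient.mk (maximalIdeal R)) = φ from RingHom.ext fun _ => rfl]; exact hφ))
  haveI : Nonempty (⊤ : T.Opens) := ⟨⟨Classical.arbitrary T, trivial⟩⟩
  haveI : Nontrivial Γ(T, ⊤) := Scheme.component_nontrivial _ _
  exact Inters29.isField_of_finite (k := ResidueField R) Inters29.idempotent_eq_zero_or_one

variable (σ : Spec (CommRingCat.of R) ⟶ X.left) (hσ : σ ≫ X.hom = 𝟙 _)

omit [IsDomain R] [IsDiscreteValuationRing R] in
theorem top_le_preimage [IsLocalRing R] {V : X.left.Opens} (hx : σ (closedPoint R) ∈ V) :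
    (⊤ : (Spec (CommRingCat.of R)).Opens) ≤ σ ⁻¹ᵁ V := fun y _ =>
  (IsLocalRing.specializes_closedPoint y).mem_open (σ ⁻¹ᵁ V).2 hx

/-- Evaluation along the section. -/
noncomputable def secEval {V : X.left.Opens} (hx : σ (closedPoint R) ∈ V) : Γ(X.left, V) →+* R :=
  (Scheme.ΓSpecIso (CommRingCat.of R)).hom.hom.comp (σ.appLE V ⊤ (top_le_preimage R σ hx)).hom

include hσ in
theorem secEval_baseSec {V : X.left.Opens} (hx : σ (closedPoint R) ∈ V) (r : R) :
    secEval R σ hx (baseSec R V r) = r := by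
  show (Scheme.ΓSpecIso (CommRingCat.of R)).hom
    ((X.left.presheaf.map (homOfLE (le_top : V ≤ ⊤)).op ≫ σ.appLE V ⊤ _) (Coh.toGlobal X.hom r)) = r
  rw [Scheme.Hom.map_appLE]
  show (Scheme.ΓSpecIso (CommRingCat.of R)).hom
    ((X.hom.appTop ≫ σ.appLE ⊤ ⊤ _) ((Scheme.ΓSpecIso (CommRingCat.of R)).inv r)) = r
  have h : X.hom.appTop ≫ σ.appLE ⊤ ⊤ le_top = (σ ≫ X.hom).appTop := by
    rw [Scheme.Hom.comp_appTop, Scheme.Hom.appLE]
    simp
  rw [h, hσ, Scheme.Hom.id_appTop]
  exact Iso.inv_hom_id_apply (Scheme.ΓSpecIso (CommRingCat.of R)) r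

theorem secEval_res {V W : X.left.Opens} (hx : σ (closedPoint R) ∈ W) (h : W ≤ V) (a : Γ(X.left, V)) :
    secEval R σ hx (X.left.presheaf.map (homOfLE h).op a) = secEval R σ (h hx) a := by
  show (Scheme.ΓSpecIso (CommRingCat.of R)).hom ((X.left.presheaf.map (homOfLE h).op ≫ σ.appLE W ⊤ _) a) = _
  rw [Scheme.Hom.map_appLE]
  rfl

theorem isUnit_secEval {V : X.left.Opens} (hx : σ (closedPoint R) ∈ V) {f : Γ(X.left, V)}
    (hf : IsUnit (X.left.presheaf.germ V _ hx f)) : IsUnit (secEval R σ hx f) := by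
  have hxb : σ (closedPoint R) ∈ X.left.basicOpen f := (Scheme.mem_basicOpen X.left f _ hx).2 hf
  rw [show secEval R σ hx f =
    secEval R σ hxb (X.left.presheaf.map (homOfLE (X.left.basicOpen_le f)).op f) from
      (secEval_res R σ hxb (X.left.basicOpen_le f) f).symm]
  exact (RingedSpace.isUnit_res_basicOpen _ f).map (secEval R σ hxb)

include hσ in
theorem mem_fibre_closedPoint : σ (closedPoint R) ∈ Models.specialFibreSet R X := by
  show X.hom (σ (closedPoint R)) = closedPoint R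
  rw [← Scheme.Hom.comp_apply, hσ]
  rfl

include hσ hρ in
/-- With a section the reduced closed fibre has only constant functions. -/
theorem exists_constant [IsClosedImmersion ρ] (hF : IsField Γ(T, ⊤)) (b : Γ(T, ⊤)) :
    ∃ r : R, b = ρ.appTop (Coh.toGlobal X.hom r) := by
  obtain ⟨z, hz⟩ := hρ.ge (mem_fibre_closedPoint R σ hσ)
  obtain ⟨V, hV, hxV, -⟩ := exists_isAffineOpen_mem_and_subset (x := σ (closedPoint R)) (U := ⊤) trivial
  obtain ⟨a, ha⟩ := ρ.app_surjective V hV (T.presheaf.map (homOfLE le_top).op b)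
  refine ⟨secEval R σ hxV a, sub_eq_zero.1 (by_contra fun hne => ?_)⟩
  letI := hF.toField
  have hu : IsUnit (b - ρ.appTop (Coh.toGlobal X.hom (secEval R σ hxV a))) := isUnit_iff_ne_zero.2 hne
  have hzV : z ∈ ρ ⁻¹ᵁ V := show ρ z ∈ V from hz ▸ hxV
  have hu' := hu.map ((T.presheaf.map (homOfLE (le_top : ρ ⁻¹ᵁ V ≤ ⊤)).op) ≫ T.presheaf.germ _ z hzV).hom
  rw [map_sub, CommRingCat.comp_apply, CommRingCat.comp_apply, ← ha, ← app_baseSec, ← map_sub, ← map_sub,
    ← Scheme.Hom.germ_stalkMap_apply, isUnit_map_iff] at hu'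
  have hxu : IsUnit (X.left.presheaf.germ V _ hxV (a - baseSec R V (secEval R σ hxV a))) := by
    have key : ∀ (x : X.left) (hx : x ∈ V), x = ρ z →
        IsUnit (X.left.presheaf.germ V x hx (a - baseSec R V (secEval R σ hxV a))) := by
      rintro _ hx rfl
      exact hu'
    exact key _ hxV hz.symm
  have := isUnit_secEval R σ hxV hxu
  rw [map_sub, secEval_baseSec R σ hσ, sub_self] at this
  exact not_isUnit_zero this

include hσ in
/-- A section contradicts a relation `a ^ q = π ^ p c` with `0 < p < q`. -/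
theorem false_of_relation {ϖ : R} (hϖ : Irreducible ϖ) {p q : ℕ} (hp : 0 < p) (hpq : p < q)
    {V : X.left.Opens} (hxV : σ (closedPoint R) ∈ V) {a c : Γ(X.left, V)} (h : a ^ q = baseSec R V ϖ ^ p * c)
    (hc : IsUnit (X.left.presheaf.germ V _ hxV c)) : False := by
  have h1 := congrArg (secEval R σ hxV) h
  rw [map_pow, map_mul, map_pow, secEval_baseSec R σ hσ] at h1
  have hcu := isUnit_secEval R σ hxV hc
  have ha0 : secEval R σ hxV a ≠ 0 := fun h0 => by
    rw [h0, zero_pow (by omega)] at h1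
    exact mul_ne_zero (pow_ne_zero p hϖ.ne_zero) hcu.ne_zero h1.symm
  obtain ⟨n, u, hn⟩ := IsDiscreteValuationRing.eq_unit_mul_pow_irreducible ha0 hϖ
  rw [hn, mul_pow, ← pow_mul] at h1
  have h2 : (↑(u ^ q) : R) * ϖ ^ (n * q) = ↑hcu.unit * ϖ ^ p := by
    rw [Units.val_pow_eq_pow_val, h1, IsUnit.unit_spec, mul_comm]
  have h3 := IsDiscreteValuationRing.unit_mul_pow_congr_pow hϖ hϖ _ _ _ _ h2
  rcases Nat.eq_zero_or_pos n with rfl | hn0
  · omega
  · have : q ≤ n * q := Nat.le_mul_of_pos_left q hn0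
    omega

end Groth.Agent.Models7.CohFlatNormal
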